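import Cfsg.Agent.H21.FrobeniusStructure

/-!
A solvable subgroup that is central in each of its solvable overgroups is central.

In a minimal situation the centralizer `C` of `A` is the only maximal subgroup containing `A`;
modulo the centre it is a Frobenius complement, and the (nilpotent) Frobenius kernel gives a
solvable overgroup of `A` that `A` does not centralize.
-/

namespace Cfsg.Agent.H88.CentralInSolvableOvergroups

open scoped Pointwise

universe u

/-- The join of a solvable normal subgroup and a solvable subgroup is solvable. -/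
theorem isSolvable_sup {G : Type u} [Group G] (N H : Subgroup G) [hn : N.Normal]
    (hN : Group.IsSolvable N) (hH : Group.IsSolvable H) :
    Group.IsSolvable (N ⊔ H : Subgroup G) := by
  have hle : (N ⊔ H).map (QuotientGroup.mk' N) ≤ H.map (QuotientGroup.mk' N) := by
    rw [Subgroup.map_sup, QuotientGroup.map_mk'_self, bot_sup_eq]
  haveI := hN
  haveI := hH
  haveI : Group.IsSolvable (H.map (QuotientGroup.mk' N)) :=
    solvable_of_surjective ((QuotientGroup.mk' N).subgroupMap_surjective H)
  let g : (N ⊔ H : Subgroup G) →* H.map (QuotientGroup.mk' N) :=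
    ((QuotientGroup.mk' N).comp (N ⊔ H).subtype).codRestrict _
      fun x => hle (Subgroup.mem_map_of_mem _ x.2)
  refine solvable_of_ker_le_range (Subgroup.inclusion (le_sup_left : N ≤ N ⊔ H)) g ?_
  intro x hx
  have h1 : QuotientGroup.mk' N (x : G) = 1 := congrArg Subtype.val (MonoidHom.mem_ker.mp hx)
  exact ⟨⟨x, (QuotientGroup.eq_one_iff _).mp h1⟩, rfl⟩

/-- The preimage of a solvable subgroup modulo the centre is solvable. -/
theorem isSolvable_comap_center {G : Type u} [Group G] (N : Subgroup (G ⧸ Subgroup.center G))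
    (hN : Group.IsSolvable N) :
    Group.IsSolvable (N.comap (QuotientGroup.mk' (Subgroup.center G))) := by
  haveI := hN
  haveI : Group.IsSolvable (Subgroup.center G) :=
    isSolvable_of_comm fun x y => Subtype.ext (Subgroup.mem_center_iff.mp y.2 x)
  have hle : Subgroup.center G ≤ N.comap (QuotientGroup.mk' (Subgroup.center G)) := by
    intro z hz
    have h1 : QuotientGroup.mk' (Subgroup.center G) z = 1 := (QuotientGroup.eq_one_iff z).mpr hz
    rw [Subgroup.mem_comap, h1]
    exact N.one_mem
  refine solvable_of_ker_le_range (Subgroup.inclusion hle)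
    ((QuotientGroup.mk' (Subgroup.center G)).subgroupComap N) ?_
  intro x hx
  have h1 : QuotientGroup.mk' (Subgroup.center G) (x : G) = 1 :=
    congrArg Subtype.val (MonoidHom.mem_ker.mp hx)
  exact ⟨⟨x, (QuotientGroup.eq_one_iff _).mp h1⟩, rfl⟩

/-- The minimal case: `A` centralizes every proper overgroup. -/
theorem top_case {G : Type u} [Group G] [Finite G] (A : Subgroup G) (hA : Group.IsSolvable A)
    (hc : ∀ S : Subgroup G, A ≤ S → Group.IsSolvable S → A ≤ Subgroup.centralizer (S : Set G))
    (hprop : ∀ M : Subgroup G, A ≤ M → M ≠ ⊤ → A ≤ Subgroup.centralizer (M : Set G)) :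
    A ≤ Subgroup.center G := by
  have hab : A ≤ Subgroup.centralizer (A : Set G) := hc A le_rfl hA
  obtain ⟨C, hCdef⟩ : ∃ C, C = Subgroup.centralizer (A : Set G) := ⟨_, rfl⟩
  have hmax : ∀ M : Subgroup G, A ≤ M → M ≠ ⊤ → M ≤ C := fun M h1 h2 =>
    hCdef ▸ Subgroup.le_centralizer_iff.mp (hprop M h1 h2)
  have hAC : A ≤ C := hCdef ▸ hab
  by_contra hnc
  have hCtop : C ≠ ⊤ := by
    intro h
    refine hnc fun a ha => Subgroup.mem_center_iff.mpr fun g => ?_
    have hg : g ∈ Subgroup.centralizer (A : Set G) := hCdef ▸ h ▸ Subgroup.mem_top g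
    exact (Subgroup.mem_centralizer_iff.mp hg a ha).symm
  by_cases hnorm : Subgroup.normalizer (C : Set G) = ⊤
  · haveI : C.Normal := Subgroup.normalizer_eq_top_iff.mp hnorm
    obtain ⟨B, hBdef⟩ : ∃ B, B = (Subgroup.center C).map C.subtype := ⟨_, rfl⟩
    haveI hBn : B.Normal := hBdef ▸ ConjAct.normal_of_characteristic_of_normal
    have hAB : A ≤ B := by
      intro a ha
      rw [hBdef]
      refine ⟨⟨a, hAC ha⟩, Subgroup.mem_center_iff.mpr fun c => Subtype.ext ?_, rfl⟩
      have hc' : (c : G) ∈ Subgroup.centralizer (A : Set G) := hCdef ▸ c.2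
      exact (Subgroup.mem_centralizer_iff.mp hc' a ha).symm
    have hBsol : Group.IsSolvable B := by
      rw [hBdef]
      exact isSolvable_of_comm fun x y => by
        obtain ⟨x', hx', hxe⟩ := x.2
        obtain ⟨y', hy', hye⟩ := y.2
        refine Subtype.ext ?_
        rw [Subgroup.coe_mul, Subgroup.coe_mul, ← hxe, ← hye, ← map_mul, ← map_mul,
          Subgroup.mem_center_iff.mp hy' x']
    refine hCtop (eq_top_iff.mpr fun y _ => ?_)
    have hS := isSolvable_sup B (Subgroup.zpowers y) hBsol inferInstance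
    have h := hc _ (hAB.trans le_sup_left) hS
    rw [hCdef]
    exact Subgroup.le_centralizer_iff.mp h
      ((le_sup_right : Subgroup.zpowers y ≤ _) (Subgroup.mem_zpowers y))
  have hself : Subgroup.normalizer (C : Set G) ≤ C :=
    hmax _ (hAC.trans Subgroup.le_normalizer) hnorm
  -- trivial intersection modulo the centre
  have hTI : ∀ g x : G, g ∉ C → x ∈ C → g⁻¹ * x * g ∈ C → x ∈ Subgroup.center G := by
    intro g x hg hx hx'
    by_contra hxz
    have hLtop : Subgroup.centralizer ({x} : Set G) ≠ ⊤ := by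
      intro h
      refine hxz (Subgroup.mem_center_iff.mpr fun y => ?_)
      exact (Subgroup.mem_centralizer_singleton_iff.mp (h ▸ Subgroup.mem_top y))
    rw [hCdef, Subgroup.mem_centralizer_iff] at hx hx'
    have hAL : A ≤ Subgroup.centralizer ({x} : Set G) := fun a ha =>
      Subgroup.mem_centralizer_singleton_iff.mpr (hx a ha)
    have hLC := hmax _ hAL hLtop
    have hconj : ∀ a ∈ A, g * a * g⁻¹ ∈ C := by
      intro a ha
      refine hLC (Subgroup.mem_centralizer_singleton_iff.mpr ?_)
      have h := congrArg (fun t => g * t * g⁻¹) (hx' a ha)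
      simpa [mul_assoc] using h
    obtain ⟨M, hMdef⟩ : ∃ M, M = C.map (MulAut.conj g).toMonoidHom := ⟨_, rfl⟩
    have hAM : A ≤ M := by
      intro a ha
      rw [hMdef]
      refine ⟨g⁻¹ * a * g, ?_, by simp [mul_assoc]⟩
      rw [SetLike.mem_coe, hCdef, Subgroup.mem_centralizer_iff]
      intro b hb
      have h1 := hconj b hb
      rw [hCdef, Subgroup.mem_centralizer_iff] at h1
      have h := congrArg (fun t => g⁻¹ * t * g) (h1 a ha).symm
      simpa [mul_assoc] using h
    have hcard : Nat.card M = Nat.card C := by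
      rw [hMdef]
      exact (Nat.card_congr (C.equivMapOfInjective _ (MulEquiv.injective _)).toEquiv).symm
    have hMtop : M ≠ ⊤ := by
      intro h
      refine hCtop (Subgroup.eq_top_of_card_eq C ?_)
      rw [← hcard, h, Subgroup.card_top]
    have hMC : M = C := Subgroup.eq_of_le_of_card_ge (hmax M hAM hMtop) hcard.ge
    refine hg (hself (Subgroup.mem_normalizer_iff.mpr fun c => ?_))
    constructor
    · intro hc'
      rw [← hMC, hMdef]
      exact ⟨c, hc', rfl⟩
    · intro hc'
      rw [← hMC, hMdef] at hc'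
      obtain ⟨d, hd, hde⟩ := hc'
      simp only [MulEquiv.coe_toMonoidHom, MulAut.conj_apply, mul_left_inj, mul_right_inj] at hde
      exact hde ▸ hd
  -- the Frobenius group `G / Z(G)`
  obtain ⟨H, hHdef⟩ : ∃ H, H = C.map (QuotientGroup.mk' (Subgroup.center G)) := ⟨_, rfl⟩
  have hZC : Subgroup.center G ≤ C := hCdef ▸ Subgroup.center_le_centralizer _
  have hcomap : H.comap (QuotientGroup.mk' (Subgroup.center G)) = C := by
    rw [hHdef, Subgroup.comap_map_eq_self]
    rwa [QuotientGroup.ker_mk']
  have hFC : Cfsg.IsFrobeniusComplement H := by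
    refine ⟨fun h => hnc ?_, fun h => hCtop ?_, ?_⟩
    · refine hAC.trans ?_
      rw [← hcomap, h, MonoidHom.comap_bot, QuotientGroup.ker_mk']
    · rw [← hcomap, h, Subgroup.comap_top]
    · intro g hg
      obtain ⟨g, rfl⟩ := QuotientGroup.mk'_surjective _ g
      refine (Subgroup.eq_bot_iff_forall _).mpr fun y hy => ?_
      obtain ⟨hy1, hy2⟩ := hy
      obtain ⟨x, rfl⟩ := QuotientGroup.mk'_surjective _ y
      have hg' : g ∉ C := by rw [← hcomap]; exact hg
      have hx1 : x ∈ C := by rw [← hcomap]; exact hy1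
      have hx2 : g⁻¹ * x * g ∈ C := by
        rw [← hcomap, Subgroup.mem_comap, map_mul, map_mul, map_inv]
        exact Cfsg.Agent.H21.mem_conj_smul.mp hy2
      exact (QuotientGroup.eq_one_iff x).mpr (hTI g x hg' hx1 hx2)
  obtain ⟨N, -, hNn, hcompl, hNnil⟩ := Cfsg.Agent.H21.exists_kernel_nilpotent hFC
  haveI := hNn
  have hK := isSolvable_comap_center N inferInstance
  obtain ⟨K, hKdef⟩ : ∃ K, K = N.comap (QuotientGroup.mk' (Subgroup.center G)) := ⟨_, rfl⟩
  haveI : K.Normal := hKdef ▸ hNn.comap _
  have hS := isSolvable_sup K A (hKdef ▸ hK) hA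
  have hKC : K ≤ C :=
    hCdef ▸ le_sup_left.trans (Subgroup.le_centralizer_iff.mp (hc _ le_sup_right hS))
  have hNH : N ≤ H := by
    intro y hy
    obtain ⟨x, rfl⟩ := QuotientGroup.mk'_surjective _ y
    rw [hHdef]
    exact Subgroup.mem_map_of_mem _ (hKC (hKdef ▸ Subgroup.mem_comap.mpr hy))
  have hNbot : N = ⊥ := hcompl.disjoint.eq_bot_of_le hNH
  refine hFC.2.1 (Subgroup.isComplement'_bot_left.mp (hNbot ▸ hcompl))

/-- A solvable subgroup central in all its solvable overgroups is central. -/
theorem le_center {G : Type u} [Group G] [Finite G] (A : Subgroup G) (hA : Group.IsSolvable A)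
    (hc : ∀ S : Subgroup G, A ≤ S → Group.IsSolvable S → ∀ a ∈ A, ∀ s ∈ S, a * s = s * a) :
    A ≤ Subgroup.center G := by
  suffices key : ∀ (n : ℕ) (M : Subgroup G), Nat.card M = n → A ≤ M →
      A ≤ Subgroup.centralizer (M : Set G) by
    have h := key _ ⊤ rfl le_top
    rwa [Subgroup.coe_top, Subgroup.centralizer_univ] at h
  intro n
  induction n using Nat.strong_induction_on with
  | _ n ih =>
    intro M hn hAM
    haveI := hA
    have hA' : Group.IsSolvable (A.subgroupOf M) :=
      solvable_of_surjective (f := (Subgroup.subgroupOfEquivOfLe hAM).symm.toMonoidHom)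
        (MulEquiv.surjective _)
    have h := top_case (A.subgroupOf M) hA' ?_ ?_
    · intro a ha
      rw [Subgroup.mem_centralizer_iff]
      intro m hm
      have h1 := h (show (⟨a, hAM ha⟩ : M) ∈ A.subgroupOf M from Subgroup.mem_subgroupOf.mpr ha)
      exact congrArg Subtype.val (Subgroup.mem_center_iff.mp h1 ⟨m, hm⟩)
    · intro S hS hsol a ha
      rw [Subgroup.mem_centralizer_iff]
      intro s hs
      haveI := hsol
      have hsol' : Group.IsSolvable (S.map M.subtype) :=
        solvable_of_surjective (f := M.subtype.subgroupMap S) (M.subtype.subgroupMap_surjective S)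
      refine Subtype.ext (hc _ (fun b hb => Subgroup.mem_map.mpr ⟨⟨b, hAM hb⟩, hS (Subgroup.mem_subgroupOf.mpr hb), rfl⟩)
        hsol' a (Subgroup.mem_subgroupOf.mp ha) s ⟨s, hs, rfl⟩).symm
    · intro S hS hStop a ha
      rw [Subgroup.mem_centralizer_iff]
      intro s hs
      have hcard : Nat.card (S.map M.subtype) = Nat.card S :=
        Subgroup.card_map_of_injective M.subtype_injective
      have hlt : Nat.card S < n := by
        rw [← hn]
        refine lt_of_le_of_ne ((Subgroup.card_le_card_group S)) fun h => hStop ?_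
        exact Subgroup.eq_top_of_card_eq S h
      have h2 := ih _ hlt (S.map M.subtype) hcard
        (fun b hb => Subgroup.mem_map.mpr ⟨⟨b, hAM hb⟩, hS (Subgroup.mem_subgroupOf.mpr hb), rfl⟩)
        (Subgroup.mem_subgroupOf.mp ha)
      exact Subtype.ext (Subgroup.mem_centralizer_iff.mp h2 s ⟨s, hs, rfl⟩)

end Cfsg.Agent.H88.CentralInSolvableOvergroups
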