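import Mathlib
import Cfsg.Agent.H88.CentralParts
import Cfsg.Agent.H89.ClassSizeCover
import Cfsg.Agent.H89.PrimaryParts
import Cfsg.Agent.H89.Nilpotent
import Cfsg.Agent.H19.MinimalNormal
import Cfsg.Agent.H21.UniqueSubgroup
import Cfsg.Agent.S0033
import Cfsg.Agent.S0071
import Cfsg.Agent.S0086
import Cfsg.Agent.S0144

/-!
# Groups with two conjugacy class sizes

Itô's theorem: if all noncentral classes have the same size `n` then `n` is a prime power.
-/

namespace Cfsg.Agent.H88

open Subgroup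

variable {G : Type*} [Group G] [Finite G]

/-- A central `q`-element lies in every Sylow `q`-subgroup. -/
theorem mem_sylow_of_central {q : ℕ} [Fact q.Prime] (Q : Sylow q G) {z : G} (hz : z ∈ center G)
    (hp : ∃ k, orderOf z = q ^ k) : z ∈ (Q : Subgroup G) := by
  refine mem_sylow_of_pPower_index z hp 0 ?_ Q
  rw [pow_zero, index_eq_one, eq_top_iff]
  intro x _
  exact mem_centralizer_singleton_iff.mpr (mem_center_iff.mp hz x)

/-- A power of an element with order prime to `orderOf w` lands outside `H` with `w`. -/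
theorem exists_pow_notMem (H : Subgroup G) {g : G} (hg : g ∉ H) :
    ∃ p m a : ℕ, p.Prime ∧ g ^ m ∉ H ∧ orderOf (g ^ m) = p ^ a := by
  obtain ⟨p, hp, hpm⟩ := H89.exists_primaryPart_notMem H hg
  obtain ⟨a, -, ha⟩ := (Nat.dvd_prime_pow hp).mp (H89.orderOf_primaryPart_dvd p g)
  exact ⟨p, _, a, hp, hpm, ha⟩

namespace TwoSizes

variable (n : ℕ)
  (h : ∀ x : G, (centralizer ({x} : Set G)).index = 1 ∨ (centralizer ({x} : Set G)).index = n)

include h

theorem index_eq {x : G} (hx : x ∉ center G) : (centralizer ({x} : Set G)).index = n := by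
  refine (h x).resolve_left fun h1 => hx ?_
  rw [mem_center_iff]
  exact fun g => mem_centralizer_singleton_iff.mp ((index_eq_one.mp h1).ge (mem_top g))

theorem eq_of_le {g g' : G} (hg : g ∉ center G) (hg' : g' ∉ center G)
    (hle : centralizer ({g} : Set G) ≤ centralizer ({g'} : Set G)) :
    centralizer ({g} : Set G) = centralizer ({g'} : Set G) := by
  refine eq_of_le_of_card_ge hle (le_of_eq ?_)
  have h1 := card_mul_index (centralizer ({g} : Set G))
  rw [← card_mul_index (centralizer ({g'} : Set G)), index_eq n h hg, index_eq n h hg'] at h1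
  have hn : 0 < n := index_eq n h hg ▸ Nat.pos_of_ne_zero index_ne_zero_of_finite
  exact (Nat.eq_of_mul_eq_mul_right hn h1).symm

theorem sylow_le_center_of_not_dvd {p : ℕ} [hp : Fact p.Prime] (hpn : ¬ p ∣ n) (P : Sylow p G) :
    (P : Subgroup G) ≤ center G := by
  refine H89.le_center_of_not_vertex P fun g hg => ?_
  rcases h g with h1 | h1
  · rw [h1] at hg; exact hp.out.not_dvd_one hg
  · exact hpn (h1 ▸ hg)

theorem center_sylow_le_center {p : ℕ} [Fact p.Prime] (hpn : p ∣ n) (P : Sylow p G) {z : G}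
    (hz : z ∈ (P : Subgroup G)) (hzc : ∀ y ∈ (P : Subgroup G), y * z = z * y) : z ∈ center G := by
  by_contra hzZ
  refine P.not_dvd_index ((index_eq n h hzZ ▸ hpn : p ∣ _).trans (index_dvd_of_le fun y hy => ?_))
  exact mem_centralizer_singleton_iff.mpr (hzc y hy)

/-- Every noncentral element centralizes a noncentral `q`-element for each `q` dividing `n`. -/
theorem exists_mem_centralizer {q : ℕ} [hq : Fact q.Prime] (hqn : q ∣ n) {g : G}
    (hg : g ∉ center G) :
    ∃ y ∈ centralizer ({g} : Set G), y ∉ center G ∧ ∃ k, orderOf y = q ^ k := by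
  by_contra hno
  push Not at hno
  obtain ⟨Q⟩ := (inferInstance : Nonempty (Sylow q G))
  obtain ⟨y, hyQ, hy⟩ : ∃ y ∈ (Q : Subgroup G), y ∉ center G := by
    by_contra hall
    push Not at hall
    refine Q.not_dvd_index ((index_eq n h hg ▸ hqn : q ∣ _).trans (index_dvd_of_le fun u hu => ?_))
    exact mem_centralizer_singleton_iff.mpr (mem_center_iff.mp (hall u hu) g).symm
  set C := centralizer ({g} : Set G)
  obtain ⟨S⟩ := (inferInstance : Nonempty (Sylow q C))
  have hS : (S : Subgroup C).map C.subtype ≤ (Q : Subgroup G) ⊓ center G := by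
    rintro _ ⟨s, hs, rfl⟩
    obtain ⟨k, hk⟩ := IsPGroup.iff_orderOf.mp S.isPGroup' ⟨s, hs⟩
    rw [← orderOf_coe, ← orderOf_coe] at hk
    have hsZ : (s : G) ∈ center G := by
      by_contra h1
      exact hno _ s.2 h1 k hk
    exact ⟨mem_sylow_of_central Q hsZ ⟨k, hk⟩, hsZ⟩
  set A := ((Q : Subgroup G) ⊓ center G) ⊔ zpowers y
  have hAQ : A ≤ (Q : Subgroup G) := sup_le inf_le_left (zpowers_le.mpr hyQ)
  have hAC : A ≤ centralizer ({y} : Set G) := by
    refine sup_le (fun u hu => ?_) (zpowers_le.mpr (mem_centralizer_singleton_iff.mpr rfl))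
    exact mem_centralizer_singleton_iff.mpr (mem_center_iff.mp hu.2 y).symm
  obtain ⟨c, hc⟩ := IsPGroup.iff_card.mp (Q.isPGroup'.to_le hAQ)
  have h1 : q ^ c ∣ Nat.card C := by
    have e1 := card_mul_index (centralizer ({y} : Set G))
    rw [← card_mul_index C, index_eq n h hg, index_eq n h hy] at e1
    have hn : 0 < n := index_eq n h hy ▸ Nat.pos_of_ne_zero index_ne_zero_of_finite
    rw [← Nat.eq_of_mul_eq_mul_right hn e1, ← hc]
    exact card_dvd_of_le hAC
  rw [hq.out.pow_dvd_iff_le_factorization Nat.card_pos.ne'] at h1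
  have h2 : Nat.card A ≤ Nat.card ((Q : Subgroup G) ⊓ center G : Subgroup G) := by
    refine le_trans ?_ (card_le_of_le hS)
    rw [card_map_of_injective C.subtype_injective, hc, S.card_eq_multiplicity]
    exact Nat.pow_le_pow_right hq.out.pos h1
  have h3 := eq_of_le_of_card_ge (le_sup_left : (Q : Subgroup G) ⊓ center G ≤ A) h2
  exact hy (h3.ge (mem_sup_right (mem_zpowers y))).2

/-- Commuting noncentral elements of coprime orders have the same centralizer. -/
theorem le_of_coprime {x y : G} (hy : y ∉ center G) (hxy : Commute y x)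
    (hco : (orderOf y).Coprime (orderOf x)) :
    centralizer ({y} : Set G) ≤ centralizer ({x} : Set G) := by
  have he := centralizer_mul_of_coprime hxy hco
  have hyx : y * x ∉ center G := by
    intro hc
    refine hy (mem_center_iff.mpr fun u => mem_centralizer_singleton_iff.mp ?_)
    have : centralizer ({y * x} : Set G) = ⊤ := by
      rw [eq_top_iff]
      exact fun u _ => mem_centralizer_singleton_iff.mpr (mem_center_iff.mp hc u)
    exact (he ▸ this.ge (mem_top u)).1
  have := eq_of_le n h hyx hy (he ▸ inf_le_left)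
  rw [← this, he]
  exact inf_le_right

variable {p₁ p₂ : ℕ} (hp₁ : p₁.Prime) (hp₂ : p₂.Prime) (hne : p₁ ≠ p₂) (h₁ : p₁ ∣ n) (h₂ : p₂ ∣ n)

include hp₁ hp₂ hne h₁ h₂

theorem exists_other (p : ℕ) : ∃ q, q.Prime ∧ q ∣ n ∧ q ≠ p := by
  rcases ne_or_eq p₁ p with h1 | h1
  · exact ⟨p₁, hp₁, h₁, h1⟩
  · exact ⟨p₂, hp₂, h₂, fun e => hne (h1.trans e.symm)⟩

theorem commute_of_mem {g : G} (hg : g ∉ center G) {a b : G}
    (ha : a ∈ centralizer ({g} : Set G)) (hb : b ∈ centralizer ({g} : Set G)) : Commute a b := by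
  obtain ⟨q, m, k, hq, hm, hk⟩ := exists_pow_notMem (center G) hg
  set y := g ^ m
  have hCy : centralizer ({g} : Set G) ≤ centralizer ({y} : Set G) := fun u hu => by
    rw [mem_centralizer_singleton_iff] at hu ⊢
    exact Commute.pow_right (show Commute u g from hu) m
  obtain ⟨r, hr, hrn, hrq⟩ := exists_other n h hp₁ hp₂ hne h₁ h₂ q
  haveI : Fact r.Prime := ⟨hr⟩
  obtain ⟨w, hwy, hw, l, hl⟩ := exists_mem_centralizer n h hrn hm
  have hcop : (orderOf y).Coprime (orderOf w) := by
    rw [hk, hl]; exact ((Nat.coprime_primes hq hr).mpr (Ne.symm hrq)).pow k l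
  have hwy' : Commute y w := (mem_centralizer_singleton_iff.mp hwy).symm
  have hyw : centralizer ({y} : Set G) = centralizer ({w} : Set G) :=
    eq_of_le n h hm hw (le_of_coprime n h hm hwy' hcop)
  have key : ∀ x ∈ centralizer ({y} : Set G), centralizer ({y} : Set G) ≤ centralizer ({x} : Set G) := by
    intro x hx
    intro u hu
    have : x ∈ centralizer ({u} : Set G) := by
      refine H89.mem_of_primaryParts _ x fun s hs hsx => ?_
      set xs := x ^ H89.primaryExp s x
      obtain ⟨e, -, he⟩ := (Nat.dvd_prime_pow hs).mp (H89.orderOf_primaryPart_dvd s x)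
      have hxy : Commute y xs :=
        (show Commute x y from mem_centralizer_singleton_iff.mp hx).symm.pow_right _
      have hle : centralizer ({y} : Set G) ≤ centralizer ({xs} : Set G) := by
        rcases eq_or_ne s q with rfl | hsq
        · rw [hyw]
          refine le_of_coprime n h hw ?_ ?_
          · have : xs ∈ centralizer ({w} : Set G) := hyw ▸ pow_mem hx _
            exact (mem_centralizer_singleton_iff.mp this).symm
          · rw [hl, he]; exact ((Nat.coprime_primes hr hs).mpr hrq).pow l e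
        · refine le_of_coprime n h hm hxy ?_
          rw [hk, he]; exact ((Nat.coprime_primes hq hs).mpr (Ne.symm hsq)).pow k e
      exact mem_centralizer_singleton_iff.mpr (mem_centralizer_singleton_iff.mp (hle hu)).symm
    exact mem_centralizer_singleton_iff.mpr (mem_centralizer_singleton_iff.mp this).symm
  exact mem_centralizer_singleton_iff.mp (key b (hCy hb) (hCy ha))

theorem eq_of_mem {g g' : G} (hg : g ∉ center G) (hg' : g' ∉ center G)
    (hm : g' ∈ centralizer ({g} : Set G)) :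
    centralizer ({g'} : Set G) = centralizer ({g} : Set G) := by
  refine (eq_of_le n h hg hg' fun u hu => ?_).symm
  exact mem_centralizer_singleton_iff.mpr (commute_of_mem n h hp₁ hp₂ hne h₁ h₂ hg hu hm)

/-- Outside `C(g)` nothing centralizes a noncentral element of `C(g)`. -/
theorem mem_center_of_commute {g u c : G} (hg : g ∉ center G) (hu : u ∉ centralizer ({g} : Set G))
    (hc : c ∈ centralizer ({g} : Set G)) (huc : Commute u c) : c ∈ center G := by
  by_contra hcZ
  exact hu (eq_of_mem n h hp₁ hp₂ hne h₁ h₂ hg hcZ hc ▸ mem_centralizer_singleton_iff.mpr huc)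

/-- An element with a `p`-power in `C(g)` fixes, modulo the center, no noncentral `q`-element. -/
theorem mem_center_of_fix {g u c : G} (hg : g ∉ center G) (hu : u ∉ centralizer ({g} : Set G))
    {p q j k : ℕ} (hp : p.Prime) (hq : q.Prime) (hpq : p ≠ q)
    (hup : u ^ p ^ j ∈ centralizer ({g} : Set G))
    (hc : c ∈ centralizer ({g} : Set G)) (hcq : orderOf c = q ^ k)
    (hd : u * c * u⁻¹ * c⁻¹ ∈ center G) : c ∈ center G := by
  refine mem_center_of_commute n h hp₁ hp₂ hne h₁ h₂ hg hu hc ?_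
  set d := u * c * u⁻¹ * c⁻¹
  have hdc : u * c * u⁻¹ = d * c := by simp [d]
  have hdu : u * d * u⁻¹ = d := by rw [mem_center_iff.mp hd u, mul_inv_cancel_right]
  have hi : ∀ i : ℕ, u ^ i * c * (u ^ i)⁻¹ = d ^ i * c := by
    intro i
    induction i with
    | zero => simp
    | succ i ih =>
      calc u ^ (i + 1) * c * (u ^ (i + 1))⁻¹ = u * (u ^ i * c * (u ^ i)⁻¹) * u⁻¹ := by
            rw [pow_succ']; group
        _ = (u * d * u⁻¹) ^ i * (u * c * u⁻¹) := by rw [ih, conj_pow]; group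
        _ = d ^ (i + 1) * c := by rw [hdu, hdc, pow_succ]; group
  have h1 : d ^ p ^ j = 1 := by
    have e := hi (p ^ j)
    rw [(commute_of_mem n h hp₁ hp₂ hne h₁ h₂ hg hup hc).eq, mul_inv_cancel_right] at e
    exact mul_eq_right.mp e.symm
  have h2 : d ^ q ^ k = 1 := by
    have e : (d * c) ^ q ^ k = 1 := by rw [← hdc, conj_pow, ← hcq, pow_orderOf_eq_one]; group
    rwa [(Commute.symm (mem_center_iff.mp hd c)).mul_pow, ← hcq, pow_orderOf_eq_one, mul_one,
      hcq] at e
  have hd1 : d = 1 := by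
    rw [← orderOf_eq_one_iff]
    exact Nat.eq_one_of_dvd_coprimes (((Nat.coprime_primes hp hq).mpr hpq).pow j k)
      (orderOf_dvd_of_pow_eq_one h1) (orderOf_dvd_of_pow_eq_one h2)
  show u * c = c * u
  rw [← mul_inv_eq_iff_eq_mul, hdc, hd1, one_mul]

/-- The normalizer of `C(g)` contains a noncentral normal `q`-subgroup section. -/
theorem qPart {g : G} (hg : g ∉ center G) {q : ℕ} (hq : q.Prime) :
    ∃ K : Subgroup G, K ≤ centralizer ({g} : Set G) ∧
      normalizer (centralizer ({g} : Set G) : Set G) ≤ normalizer (K : Set G) ∧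
      IsPGroup q K ∧
      ∀ x ∈ centralizer ({g} : Set G), (∃ k, orderOf x = q ^ k) → x ∈ K := by
  haveI : Fact q.Prime := ⟨hq⟩
  set C := centralizer ({g} : Set G)
  let K : Subgroup G :=
    { carrier := {x | x ∈ C ∧ ∃ k, x ^ q ^ k = 1}
      one_mem' := ⟨one_mem _, 0, one_pow _⟩
      mul_mem' := fun {a b} ⟨ha, i, hi⟩ ⟨hb, j, hj⟩ => ⟨mul_mem ha hb, i + j, by
        rw [(commute_of_mem n h hp₁ hp₂ hne h₁ h₂ hg ha hb).mul_pow]
        nth_rw 1 [pow_add]
        rw [pow_mul, hi, one_pow, one_mul, pow_add, mul_comm, pow_mul, hj, one_pow]⟩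
      inv_mem' := fun {a} ⟨ha, i, hi⟩ => ⟨inv_mem ha, i, by rw [inv_pow, hi, inv_one]⟩ }
  refine ⟨K, fun x hx => hx.1, fun u hu => ?_, fun x => ?_, fun x hx ⟨k, hk⟩ => ⟨hx, k, ?_⟩⟩
  · rw [mem_normalizer_iff]
    intro x
    have h1 : ∀ i : ℕ, (u * x * u⁻¹) ^ i = 1 ↔ x ^ i = 1 := fun i => by
      rw [conj_pow, conj_eq_one_iff]
    show (x ∈ C ∧ _) ↔ (u * x * u⁻¹ ∈ C ∧ _)
    simp only [h1]
    rw [mem_normalizer_iff.mp hu x]
  · obtain ⟨k, hk⟩ := x.2.2
    exact ⟨k, Subtype.ext (by rw [SubgroupClass.coe_pow]; exact hk)⟩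
  · rw [← hk, pow_orderOf_eq_one]

/-- Elements of two different prime-power orders modulo `C(g)` cannot commute modulo `C(g)`. -/
theorem key {g u v : G} (hg : g ∉ center G)
    (hu : u ∈ normalizer (centralizer ({g} : Set G) : Set G))
    (hv : v ∈ normalizer (centralizer ({g} : Set G) : Set G))
    (hu' : u ∉ centralizer ({g} : Set G)) (hv' : v ∉ centralizer ({g} : Set G))
    {p q j k : ℕ} (hp : p.Prime) (hq : q.Prime) (hpq : p ≠ q) (hqn : q ∣ n)
    (hup : orderOf u = p ^ j) (hvq : orderOf v = q ^ k)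
    (hcomm : u * v * u⁻¹ * v⁻¹ ∈ centralizer ({g} : Set G)) : False := by
  haveI : Fact q.Prime := ⟨hq⟩
  set C := centralizer ({g} : Set G) with hC
  obtain ⟨K, hKC, hKn, hKp, hKmem⟩ := qPart n h hp₁ hp₂ hne h₁ h₂ hg hq
  obtain ⟨y, hyC, hy, hyq⟩ := exists_mem_centralizer n h hqn hg
  set H := K ⊔ zpowers v
  have hvp : IsPGroup q (zpowers v) := IsPGroup.of_card (n := k) (by rw [Nat.card_zpowers, hvq])
  have hHp : IsPGroup q H := hKp.to_sup_of_normal_left' hvp (zpowers_le.mpr (hKn hv))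
  set Hb := H.map (QuotientGroup.mk' (center G))
  set Kb := (K.map (QuotientGroup.mk' (center G))).subgroupOf Hb
  haveI : Kb.Normal := by
    have hle : K.map (QuotientGroup.mk' (center G)) ≤ Hb := map_mono le_sup_left
    rw [normal_subgroupOf_iff hle]
    rintro _ _ ⟨a, ha, rfl⟩ ⟨b, hb, rfl⟩
    refine ⟨b * a * b⁻¹, ?_, by simp⟩
    exact (mem_normalizer_iff.mp ((sup_le le_normalizer (zpowers_le.mpr (hKn hv)) : H ≤ _) hb) a).mp ha
  have hKb : Kb ≠ ⊥ := by
    intro h0
    rw [subgroupOf_eq_bot] at h0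
    have h1 : (y : G ⧸ center G) ∈ (⊥ : Subgroup (G ⧸ center G)) :=
      h0.le_bot ⟨mem_map_of_mem _ (hKmem y hyC hyq), mem_map_of_mem _ (mem_sup_left (hKmem y hyC hyq))⟩
    exact hy ((QuotientGroup.eq_one_iff y).mp (mem_bot.mp h1))
  obtain ⟨cb, hcb, hcb1⟩ := (bot_or_exists_ne_one _).resolve_left
    (H24.inf_center_ne_bot (hHp.map _) hKb)
  obtain ⟨c, hcK, hce⟩ := hcb.1
  change QuotientGroup.mk' (center G) c = (cb : G ⧸ center G) at hce
  have hcZ : c ∉ center G := fun hc => hcb1 (Subtype.ext (by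
    rw [← hce]; exact (QuotientGroup.eq_one_iff c).mpr hc))
  have hz : v * c * v⁻¹ * c⁻¹ ∈ center G := by
    have h1 := congrArg Subtype.val (mem_center_iff.mp hcb.2 ⟨QuotientGroup.mk' (center G) v,
      mem_map_of_mem _ (mem_sup_right (mem_zpowers v))⟩)
    simp only [coe_mul] at h1
    rw [← hce] at h1
    rw [← QuotientGroup.eq_one_iff]
    show QuotientGroup.mk' (center G) (v * c * v⁻¹ * c⁻¹) = 1
    rw [map_mul, map_mul, map_mul, h1, map_inv, map_inv]
    group
  obtain ⟨l, hl⟩ : ∃ l, orderOf c = q ^ l := by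
    obtain ⟨l, hl⟩ := IsPGroup.iff_orderOf.mp hKp ⟨c, hcK⟩
    exact ⟨l, by rwa [Subgroup.orderOf_mk] at hl⟩
  set z := v * c * v⁻¹ * c⁻¹
  have hcC : c ∈ C := hKC hcK
  set c' := u * c * u⁻¹
  have hc'C : c' ∈ C := (mem_normalizer_iff.mp hu c).mp hcC
  set e' := u⁻¹ * (u * v * u⁻¹ * v⁻¹)⁻¹ * u
  have he' : e' ∈ C := by
    have := (mem_normalizer_iff.mp (inv_mem hu) _).mp (C.inv_mem hcomm)
    simpa [e'] using this
  have hvc' : v * c' * v⁻¹ = z * c' := by
    have hvc : v * c * v⁻¹ = z * c := by simp [z]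
    have hzc : z * c ∈ C := C.mul_mem (by
      rw [hC, mem_centralizer_singleton_iff]; exact (mem_center_iff.mp hz g).symm) hcC
    calc v * c' * v⁻¹ = u * ((e' * v) * c * (e' * v)⁻¹) * u⁻¹ := by simp [c', e']; group
      _ = u * (e' * (v * c * v⁻¹) * e'⁻¹) * u⁻¹ := by group
      _ = u * (z * c) * u⁻¹ := by
        rw [hvc, (commute_of_mem n h hp₁ hp₂ hne h₁ h₂ hg he' hzc).eq, mul_inv_cancel_right]
      _ = u * z * c * u⁻¹ := by group
      _ = z * (u * c * u⁻¹) := by rw [mem_center_iff.mp hz u]; group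
  have hd : c' * c⁻¹ ∈ center G := by
    refine mem_center_of_commute n h hp₁ hp₂ hne h₁ h₂ hg hv' (C.mul_mem hc'C (C.inv_mem hcC)) ?_
    show v * (c' * c⁻¹) = c' * c⁻¹ * v
    rw [← mul_inv_eq_iff_eq_mul]
    calc v * (c' * c⁻¹) * v⁻¹ = (v * c' * v⁻¹) * (v * c * v⁻¹)⁻¹ := by group
      _ = (z * c') * (z * c)⁻¹ := by rw [hvc']; simp [z]
      _ = z * (c' * c⁻¹) * z⁻¹ := by group
      _ = c' * c⁻¹ := by rw [← mem_center_iff.mp hz (c' * c⁻¹), mul_inv_cancel_right]
  exact hcZ (mem_center_of_fix n h hp₁ hp₂ hne h₁ h₂ hg hu' hp hq hpq (j := j)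
    (by rw [← hup, pow_orderOf_eq_one]; exact one_mem _) hcC hl hd)

/-- Each prime of `n` divides `|N(C(g)) : C(g)|`. -/
theorem exists_normalizer_notMem {g : G} (hg : g ∉ center G) {p : ℕ} [hp : Fact p.Prime] (hpn : p ∣ n) :
    ∃ u ∈ normalizer (centralizer ({g} : Set G) : Set G),
      u ∉ centralizer ({g} : Set G) ∧ ∃ k, orderOf u = p ^ k := by
  set C := centralizer ({g} : Set G) with hC
  obtain ⟨x, hxC, hx, k, hk⟩ := exists_mem_centralizer n h hpn hg
  obtain ⟨S⟩ := (inferInstance : Nonempty (Sylow p C))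
  set T := (S : Subgroup C).map C.subtype
  obtain ⟨P, hP⟩ := (S.isPGroup'.map C.subtype).exists_le_sylow
  have hlt : T.subgroupOf (P : Subgroup G) ≠ ⊤ := by
    intro h1
    rw [subgroupOf_eq_top] at h1
    refine hx (?_ : x ∈ center G)
    exfalso
    refine P.not_dvd_index ?_
    have h2 : (P : Subgroup G) ≤ C := h1.trans (map_subtype_le _)
    exact (index_eq n h hg ▸ hpn : p ∣ C.index).trans (index_dvd_of_le h2)
  haveI := P.isPGroup'.isNilpotent
  obtain ⟨v, hvN, hvT⟩ := SetLike.exists_of_lt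
    (Group.normalizerCondition_of_isNilpotent (T.subgroupOf (P : Subgroup G)) (lt_top_iff_ne_top.mpr hlt))
  -- a noncentral element of `T`
  obtain ⟨t, htT, ht⟩ : ∃ t ∈ T, t ∉ center G := by
    obtain ⟨S', hS'⟩ := (IsPGroup.of_card (p := p) (n := k) (G := zpowers (⟨x, hxC⟩ : C))
      (by rw [Nat.card_zpowers, Subgroup.orderOf_mk, hk])).exists_le_sylow
    obtain ⟨c, hc⟩ := MulAction.exists_smul_eq C S' S
    refine ⟨((c * ⟨x, hxC⟩ * c⁻¹ : C) : G), ⟨c * ⟨x, hxC⟩ * c⁻¹, ?_, rfl⟩, fun h1 => hx ?_⟩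
    · rw [SetLike.mem_coe, ← hc, Sylow.coe_subgroup_smul]
      exact ⟨⟨x, hxC⟩, hS' (mem_zpowers _), rfl⟩
    · have h2 := Normal.conj_mem (inferInstance : (center G).Normal) _ h1 (c : G)⁻¹
      simpa [mul_assoc] using h2
  have htC : t ∈ C := map_subtype_le _ htT
  have htP : t ∈ (P : Subgroup G) := hP htT
  have hvt : (v : G) * t * (v : G)⁻¹ ∈ T := by
    have := (mem_normalizer_iff.mp hvN ⟨t, htP⟩).mp (mem_subgroupOf.mpr htT)
    rwa [mem_subgroupOf] at this
  have hCt := eq_of_mem n h hp₁ hp₂ hne h₁ h₂ hg ht htC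
  have hvt' : (v : G) * t * (v : G)⁻¹ ∉ center G := fun h1 => ht (by
    have h2 := Normal.conj_mem (inferInstance : (center G).Normal) _ h1 (v : G)⁻¹
    simpa [mul_assoc] using h2)
  have hCvt := eq_of_mem n h hp₁ hp₂ hne h₁ h₂ hg hvt' (map_subtype_le _ hvt)
  obtain ⟨l, hl⟩ := IsPGroup.iff_orderOf.mp P.isPGroup' v
  rw [← orderOf_coe] at hl
  refine ⟨v, mem_normalizer_iff.mpr fun w => ?_, fun hvC => ?_, l, hl⟩
  · show w ∈ C ↔ (v : G) * w * (v : G)⁻¹ ∈ C
    rw [hC]
    conv_lhs => rw [← hCt, mem_centralizer_singleton_iff]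
    conv_rhs => rw [← hCvt, mem_centralizer_singleton_iff]
    constructor
    · intro e
      calc (v : G) * w * (v : G)⁻¹ * ((v : G) * t * (v : G)⁻¹) = v * (w * t) * (v : G)⁻¹ := by group
        _ = _ := by rw [e]; group
    · intro e
      calc w * t = (v : G)⁻¹ * (((v : G) * w * (v : G)⁻¹) * ((v : G) * t * (v : G)⁻¹)) * v := by group
        _ = _ := by rw [e]; group
  · apply hvT
    rw [mem_subgroupOf]
    refine ⟨⟨v, hvC⟩, ?_, rfl⟩
    refine S.is_maximal' (Q := (P : Subgroup G).subgroupOf C) ?_ ?_ |>.le (mem_subgroupOf.mpr v.2)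
    · exact P.isPGroup'.comap_of_injective _ C.subtype_injective
    · exact fun a ha => mem_subgroupOf.mpr (hP (mem_map_of_mem _ ha))

/-- `N(C(g))/C(g)` has no commuting nontrivial elements of coprime orders. -/
theorem eq_one_of_commute {g : G} (hg : g ∉ center G)
    [((centralizer ({g} : Set G)).subgroupOf (normalizer (centralizer ({g} : Set G) : Set G))).Normal]
    {a b : normalizer (centralizer ({g} : Set G) : Set G) ⧸
      (centralizer ({g} : Set G)).subgroupOf (normalizer (centralizer ({g} : Set G) : Set G))}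
    (hab : Commute a b) (hco : (orderOf a).Coprime (orderOf b)) : a = 1 ∨ b = 1 := by
  by_contra hne1
  push Not at hne1
  obtain ⟨a0, rfl⟩ := QuotientGroup.mk'_surjective _ a
  obtain ⟨b0, rfl⟩ := QuotientGroup.mk'_surjective _ b
  obtain ⟨p, m, i, hp, hm, hi⟩ := exists_pow_notMem
    ((centralizer ({g} : Set G)).subgroupOf _) (fun h1 => hne1.1 ((QuotientGroup.eq_one_iff a0).mpr h1))
  obtain ⟨q, l, j, hq, hl, hj⟩ := exists_pow_notMem
    ((centralizer ({g} : Set G)).subgroupOf _) (fun h1 => hne1.2 ((QuotientGroup.eq_one_iff b0).mpr h1))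
  haveI : Fact p.Prime := ⟨hp⟩
  haveI : Fact q.Prime := ⟨hq⟩
  rw [mem_subgroupOf] at hm hl
  rw [← orderOf_coe] at hi hj
  have hdvd : ∀ (r e : ℕ), r.Prime → ∀ (x : normalizer (centralizer ({g} : Set G) : Set G)),
      (x : G) ∉ centralizer ({g} : Set G) → orderOf (x : G) = r ^ e → r ∣ n := by
    intro r e hr x hx hxo
    haveI : Fact r.Prime := ⟨hr⟩
    by_contra hrn
    obtain ⟨R, hR⟩ := (IsPGroup.of_card (p := r) (n := e) (G := zpowers (x : G))
      (by rw [Nat.card_zpowers, hxo])).exists_le_sylow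
    refine hx (mem_centralizer_singleton_iff.mpr ?_)
    exact (mem_center_iff.mp (sylow_le_center_of_not_dvd n h hrn R (hR (mem_zpowers _))) g).symm
  have hpq : p ≠ q := by
    rintro rfl
    refine hp.not_dvd_one (?_ : p ∣ 1)
    rw [← hco.gcd_eq_one]
    have haux : ∀ (x : normalizer (centralizer ({g} : Set G) : Set G)) (r e : ℕ),
        (x : G) ^ r ∉ centralizer ({g} : Set G) → orderOf ((x : G) ^ r) = p ^ e →
          p ∣ orderOf (QuotientGroup.mk' ((centralizer ({g} : Set G)).subgroupOf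
            (normalizer (centralizer ({g} : Set G) : Set G))) x) := by
      intro x r e hr he
      set π := QuotientGroup.mk' ((centralizer ({g} : Set G)).subgroupOf
            (normalizer (centralizer ({g} : Set G) : Set G)))
      have h1 : orderOf (π (x ^ r)) ∣ p ^ e := by
        refine (orderOf_map_dvd π _).trans (dvd_of_eq ?_)
        rw [← orderOf_coe, SubgroupClass.coe_pow, he]
      obtain ⟨f, -, hf⟩ := (Nat.dvd_prime_pow hp).mp h1
      have hf0 : f ≠ 0 := by
        rintro rfl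
        rw [pow_zero, orderOf_eq_one_iff] at hf
        exact hr (by simpa [mem_subgroupOf] using (QuotientGroup.eq_one_iff _).mp hf)
      rw [map_pow] at hf
      exact (dvd_pow_self p hf0).trans (hf ▸ orderOf_pow_dvd r)
    exact Nat.dvd_gcd (haux a0 m i hm hi) (haux b0 l j hl hj)
  refine key n h hp₁ hp₂ hne h₁ h₂ hg (a0 ^ m).2 (b0 ^ l).2 hm hl hp hq hpq
    (hdvd q j hq (b0 ^ l) hl hj) hi hj ?_
  have hc : Commute (QuotientGroup.mk' ((centralizer ({g} : Set G)).subgroupOf
      (normalizer (centralizer ({g} : Set G) : Set G))) (a0 ^ m))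
      (QuotientGroup.mk' _ (b0 ^ l)) := by
    rw [map_pow, map_pow]
    exact hab.pow_pow m l
  have h1 : a0 ^ m * b0 ^ l * (a0 ^ m)⁻¹ * (b0 ^ l)⁻¹ ∈
      (centralizer ({g} : Set G)).subgroupOf _ := by
    rw [← QuotientGroup.eq_one_iff]
    show QuotientGroup.mk' _ (a0 ^ m * b0 ^ l * (a0 ^ m)⁻¹ * (b0 ^ l)⁻¹) = 1
    rw [map_mul, map_mul, map_mul, map_inv, map_inv, hc.eq]
    group
  simpa [mem_subgroupOf] using h1

/-- There are only two primes in `n`. -/
theorem exists_two_primes {g : G} (hg : g ∉ center G) :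
    ∃ p r : ℕ, p.Prime ∧ r.Prime ∧ ∀ s : ℕ, s.Prime → s ∣ n → s = p ∨ s = r := by
  classical
  set C := centralizer ({g} : Set G) with hC
  haveI : (C.subgroupOf (normalizer (C : Set G))).Normal := normal_in_normalizer
  set W := normalizer (C : Set G) ⧸ C.subgroupOf (normalizer (C : Set G))
  have hdiv : ∀ s : ℕ, s.Prime → s ∣ n → ∃ w : W, orderOf w = s := by
    intro s hs hsn
    haveI : Fact s.Prime := ⟨hs⟩
    obtain ⟨u, hu, huC, k, hk⟩ := exists_normalizer_notMem n h hp₁ hp₂ hne h₁ h₂ hg hsn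
    refine exists_prime_orderOf_dvd_card' s ((?_ : s ∣ orderOf ((⟨u, hu⟩ : normalizer (C : Set G)) : W)).trans
      (orderOf_dvd_natCard _))
    have h1 := orderOf_map_dvd (QuotientGroup.mk' (C.subgroupOf (normalizer (C : Set G)))) ⟨u, hu⟩
    rw [Subgroup.orderOf_mk, hk] at h1
    obtain ⟨f, -, hf⟩ := (Nat.dvd_prime_pow hs).mp h1
    have hf0 : f ≠ 0 := by
      rintro rfl
      rw [pow_zero, orderOf_eq_one_iff] at hf
      exact huC (by simpa [mem_subgroupOf] using (QuotientGroup.eq_one_iff _).mp hf)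
    exact hf ▸ dvd_pow_self s hf0
  obtain ⟨w₁, hw₁⟩ := hdiv p₁ hp₁ h₁
  have hW1 : Nat.card W ≠ 1 := by
    intro h0
    have := orderOf_dvd_natCard w₁
    rw [hw₁, h0] at this
    exact hp₁.not_dvd_one this
  set p := (Nat.card W).minFac
  have hp : p.Prime := Nat.minFac_prime hW1
  haveI : Fact p.Prime := ⟨hp⟩
  obtain ⟨q, hq, hqn, hqp⟩ := exists_other n h hp₁ hp₂ hne h₁ h₂ p
  obtain ⟨K, hKC, hKn, hKp, hKmem⟩ := qPart n h hp₁ hp₂ hne h₁ h₂ hg hq
  haveI : Fact q.Prime := ⟨hq⟩
  -- the action on the `q`-part of `C(g)` modulo the center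
  set Kb := K.map (QuotientGroup.mk' (center G))
  haveI : Nontrivial Kb := by
    obtain ⟨y, hyC, hy, hyq⟩ := exists_mem_centralizer n h hqn hg
    rw [nontrivial_iff_exists_ne_one]
    exact ⟨_, mem_map_of_mem _ (hKmem y hyC hyq), fun h1 => hy ((QuotientGroup.eq_one_iff y).mp h1)⟩
  obtain ⟨T⟩ := (inferInstance : Nonempty (Sylow p W))
  let Nb := (normalizer (C : Set G)).map (QuotientGroup.mk' (center G))
  have hNb : Nb ≤ normalizer (Kb : Set (G ⧸ center G)) := by
    refine le_trans (map_mono hKn) ?_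
    exact le_normalizer_map _
  let f : normalizer (C : Set G) →* MulAut Kb :=
    (Kb.normalizerMonoidHom).comp
      ((inclusion hNb).comp ((QuotientGroup.mk' (center G)).subgroupMap _))
  have hf : ∀ (u : normalizer (C : Set G)) (c : G) (hc : (c : G ⧸ center G) ∈ Kb),
      ((f u ⟨_, hc⟩ : Kb) : G ⧸ center G) = (((u : G) * c * (u : G)⁻¹ : G) : G ⧸ center G) := by
    intro u c hc
    simp [f]
    rfl
  have hker : C.subgroupOf (normalizer (C : Set G)) ≤ f.ker := by
    intro u hu
    rw [mem_subgroupOf] at hu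
    rw [MonoidHom.mem_ker]
    refine MulEquiv.ext fun kb => ?_
    obtain ⟨c, hc, hce⟩ := kb.2
    have : kb = ⟨(c : G ⧸ center G),
        (show (c : G ⧸ center G) ∈ Kb from mem_map_of_mem (QuotientGroup.mk' _) hc)⟩ := Subtype.ext hce.symm
    apply Subtype.ext
    rw [this, hf, MulAut.one_apply]
    rw [(commute_of_mem n h hp₁ hp₂ hne h₁ h₂ hg hu (hKC hc)).eq, mul_inv_cancel_right]
  let ψ : (T : Subgroup W) →* MulAut Kb := (QuotientGroup.lift _ f hker).comp (T : Subgroup W).subtype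
  have hfpf : ∀ e : (T : Subgroup W), e ≠ 1 → ∀ k : Kb, ψ e k = k → k = 1 := by
    intro e he k hek
    obtain ⟨u, hu⟩ := QuotientGroup.mk'_surjective (C.subgroupOf (normalizer (C : Set G))) (e : W)
    have huC : (u : G) ∉ C := fun h1 => he (Subtype.ext (by
      rw [← hu, OneMemClass.coe_one]
      exact (QuotientGroup.eq_one_iff u).mpr (mem_subgroupOf.mpr h1)))
    obtain ⟨j, hj⟩ := T.isPGroup' e
    have hup : (u : G) ^ p ^ j ∈ C := by
      have h1 := congrArg Subtype.val hj
      rw [SubgroupClass.coe_pow, ← hu, OneMemClass.coe_one, ← map_pow] at h1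
      simpa [mem_subgroupOf] using (QuotientGroup.eq_one_iff _).mp h1
    obtain ⟨c, hc, hce⟩ := k.2
    have hk : k = ⟨(c : G ⧸ center G),
        (show (c : G ⧸ center G) ∈ Kb from mem_map_of_mem (QuotientGroup.mk' _) hc)⟩ := Subtype.ext hce.symm
    have hψ : ψ e = f u := by
      show QuotientGroup.lift _ f hker (e : W) = f u
      rw [← hu]; rfl
    rw [hψ, hk] at hek
    have h1 := congrArg Subtype.val hek
    rw [hf] at h1
    obtain ⟨l, hl⟩ := IsPGroup.iff_orderOf.mp hKp ⟨c, hc⟩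
    rw [Subgroup.orderOf_mk] at hl
    rw [hk]
    apply Subtype.ext
    rw [OneMemClass.coe_one]
    refine (QuotientGroup.eq_one_iff c).mpr ?_
    refine mem_center_of_fix n h hp₁ hp₂ hne h₁ h₂ hg huC hp hq hqp.symm (j := j) hup (hKC hc) hl ?_
    rw [← QuotientGroup.eq_one_iff]
    show ((((u : G) * c * (u : G)⁻¹) * c⁻¹ : G) : G ⧸ center G) = 1
    rw [QuotientGroup.mk_mul, h1, ← QuotientGroup.mk_mul, mul_inv_cancel, QuotientGroup.mk_one]
  have huniq := H21.unique_subgroup_of_fpf T.isPGroup' ψ hfpf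
  -- `W` has a normal `p`-complement
  obtain ⟨K0, hK0, hK0c⟩ := (S0071.result T).mpr fun U hU x hx hxp => by
    rw [Subgroup.mem_centralizer_iff]
    intro a ha
    by_cases hx1 : x = 1
    · simp [hx1]
    by_cases ha1 : a = 1
    · simp [ha1]
    exfalso
    have haU : a ∈ U := ha
    obtain ⟨i, hi⟩ := IsPGroup.iff_orderOf.mp T.isPGroup' ⟨a, hU haU⟩
    rw [Subgroup.orderOf_mk] at hi
    have hi0 : i ≠ 0 := fun h0 => ha1 (orderOf_eq_one_iff.mp (by rw [hi, h0, pow_zero]))
    set z := a ^ (orderOf a / p)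
    have hz : orderOf z = p := orderOf_pow_orderOf_div (orderOf_pos a).ne' (hi ▸ dvd_pow_self p hi0)
    have hzU : z ∈ U := pow_mem haU _
    have hxzU : x * z * x⁻¹ ∈ U := (mem_normalizer_iff.mp hx z).mp hzU
    have hxz : orderOf (x * z * x⁻¹) = p := by
      rw [← hz]; simpa using MulEquiv.orderOf_eq (MulAut.conj x) z
    have heq : zpowers (x * z * x⁻¹) = zpowers z := by
      have h1 := huniq (zpowers ⟨_, hU hxzU⟩) (zpowers ⟨_, hU hzU⟩)
        (by rw [Nat.card_zpowers, Subgroup.orderOf_mk, hxz])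
        (by rw [Nat.card_zpowers, Subgroup.orderOf_mk, hz])
      have h2 := congrArg (Subgroup.map (T : Subgroup W).subtype) h1
      simpa [MonoidHom.map_zpowers] using h2
    obtain ⟨e, he⟩ : ∃ e : ℤ, z ^ e = x * z * x⁻¹ :=
      mem_zpowers_iff.mp (heq ▸ mem_zpowers _)
    have hpow : ∀ i : ℕ, x ^ i * z * (x ^ i)⁻¹ = z ^ (e ^ i) := by
      intro i
      induction i with
      | zero => simp
      | succ i ih =>
        calc x ^ (i + 1) * z * (x ^ (i + 1))⁻¹ = x * (x ^ i * z * (x ^ i)⁻¹) * x⁻¹ := by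
              rw [pow_succ']; group
          _ = (x * z * x⁻¹) ^ (e ^ i) := by rw [ih, conj_zpow]
          _ = z ^ (e ^ (i + 1)) := by rw [← he, ← zpow_mul, pow_succ']
    have hmod : ((e : ZMod p)) ^ orderOf x = 1 := by
      have h1 := hpow (orderOf x)
      rw [pow_orderOf_eq_one, inv_one, one_mul, mul_one] at h1
      have h2 : z ^ ((e ^ orderOf x : ℤ) - 1) = 1 := by rw [zpow_sub, ← h1]; simp
      rw [← orderOf_dvd_iff_zpow_eq_one, hz, ← ZMod.intCast_zmod_eq_zero_iff_dvd] at h2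
      push_cast at h2
      exact sub_eq_zero.mp h2
    have he0 : (e : ZMod p) ≠ 0 := by
      intro h0
      rw [h0, zero_pow (orderOf_pos x).ne'] at hmod
      exact zero_ne_one hmod
    have he1 : (e : ZMod p) = 1 := by
      rw [← orderOf_eq_one_iff]
      refine Nat.eq_one_of_dvd_coprimes (a := orderOf x) (b := p - 1) ?_
        (orderOf_dvd_of_pow_eq_one hmod) (orderOf_dvd_of_pow_eq_one (ZMod.pow_card_sub_one_eq_one he0))
      refine Nat.coprime_of_dvd fun s hs hsx hsp => ?_
      have h1 : p ≤ s := Nat.minFac_le_of_dvd hs.two_le (hsx.trans (orderOf_dvd_natCard x))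
      have h2 := Nat.le_of_dvd (by have := hp.two_le; omega) hsp
      have h3 := hp.two_le; have h4 := hs.two_le; omega
    have hcomm : Commute x z := by
      show x * z = z * x
      rw [← mul_inv_eq_iff_eq_mul, ← he]
      have h2 : z ^ (e - 1) = 1 := by
        rw [← orderOf_dvd_iff_zpow_eq_one, hz, ← ZMod.intCast_zmod_eq_zero_iff_dvd]
        push_cast
        rw [he1, sub_self]
      rw [zpow_sub, zpow_one, mul_inv_eq_one] at h2
      exact h2
    rcases eq_one_of_commute n h hp₁ hp₂ hne h₁ h₂ hg hcomm (by rw [hz]; exact hxp) with h1 | h1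
    · exact hx1 h1
    · rw [h1, orderOf_one] at hz
      exact hp.ne_one hz.symm
  haveI := hK0
  have hmem := S0086.result T K0 hK0c
  obtain ⟨t, ht⟩ := exists_prime_orderOf_dvd_card' (G := W) p (Nat.minFac_dvd _)
  have htK : t ∉ K0 := fun h1 => by
    have := (hmem t).mp h1
    rw [ht] at this
    exact hp.ne_one (Nat.eq_one_of_dvd_coprimes this dvd_rfl dvd_rfl)
  have hfix : ∀ x ∈ K0, t * x * t⁻¹ = x → x = 1 := by
    intro x hx hfx
    refine (eq_one_of_commute n h hp₁ hp₂ hne h₁ h₂ hg (mul_inv_eq_iff_eq_mul.mp hfx)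
      (by rw [ht]; exact ((hmem x).mp hx).symm)).resolve_left fun h1 => ?_
    rw [h1, orderOf_one] at ht
    exact hp.ne_one ht.symm
  have hK0ne : K0 ≠ ⊥ := by
    intro h0
    obtain ⟨w, hw⟩ := hdiv q hq hqn
    have h1 : w ∈ K0 := (hmem w).mpr (hw ▸ (Nat.coprime_primes hq hp).mpr hqp)
    rw [h0, mem_bot] at h1
    rw [h1, orderOf_one] at hw
    exact hq.ne_one hw.symm
  let φ : MulAut K0 := MulAut.conjNormal t
  have hord : orderOf φ = p := by
    have h1 : φ ^ p = 1 := by rw [← map_pow, ← ht, pow_orderOf_eq_one, map_one]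
    refine ((Nat.dvd_prime hp).mp (orderOf_dvd_of_pow_eq_one h1)).resolve_left fun h0 => ?_
    rw [orderOf_eq_one_iff] at h0
    obtain ⟨u, hu, hu1⟩ := (bot_or_exists_ne_one K0).resolve_left hK0ne
    refine hu1 (hfix u hu ?_)
    have h2 := congrArg Subtype.val (DFunLike.congr_fun h0 (⟨u, hu⟩ : K0))
    simpa [φ, MulAut.conjNormal_apply] using h2
  have hnil : Group.IsNilpotent K0 := S0033.result φ (fun u hu => by
    refine Subtype.ext (hfix u u.2 ?_)
    have h2 := congrArg Subtype.val hu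
    simpa [φ, MulAut.conjNormal_apply] using h2) p hp hord
  obtain ⟨w₂, hw₂⟩ := hdiv q hq hqn
  refine ⟨p, q, hp, hq, fun s hs hsn => ?_⟩
  by_contra hsne
  push Not at hsne
  obtain ⟨w₃, hw₃⟩ := hdiv s hs hsn
  have h2 : w₂ ∈ K0 := (hmem w₂).mpr (hw₂ ▸ (Nat.coprime_primes hq hp).mpr hqp)
  have h3 : w₃ ∈ K0 := (hmem w₃).mpr (hw₃ ▸ (Nat.coprime_primes hs hp).mpr hsne.1)
  have hco : (orderOf w₂).Coprime (orderOf w₃) := by
    rw [hw₂, hw₃]; exact (Nat.coprime_primes hq hs).mpr (Ne.symm hsne.2)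
  rcases eq_one_of_commute n h hp₁ hp₂ hne h₁ h₂ hg
    (H89.commute_of_nilpotent_coprime hnil h2 h3 hco) hco with h1 | h1
  · rw [h1, orderOf_one] at hw₂; exact hq.ne_one hw₂.symm
  · rw [h1, orderOf_one] at hw₃; exact hs.ne_one hw₃.symm

/-- Two primes dividing the common class size are impossible. -/
theorem false_of_two_primes {g₀ : G} (hg₀ : g₀ ∉ center G) : False := by
  obtain ⟨p, r, hp, hr, hpr⟩ := exists_two_primes n h hp₁ hp₂ hne h₁ h₂ hg₀
  -- `G/Z` is solvable
  have hdiv : ∀ s : ℕ, s.Prime → s ∣ Nat.card (G ⧸ center G) → s = p ∨ s = r := by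
    intro s hs hsd
    haveI : Fact s.Prime := ⟨hs⟩
    refine hpr s hs ?_
    by_contra hsn
    obtain ⟨S⟩ := (inferInstance : Nonempty (Sylow s G))
    refine S.not_dvd_index (hsd.trans ?_)
    rw [← index_eq_card]
    exact index_dvd_of_le (sylow_le_center_of_not_dvd n h hsn S)
  haveI : Group.IsSolvable (G ⧸ center G) := by
    obtain ⟨N, hN⟩ : ∃ N, N = Nat.card (G ⧸ center G) := ⟨_, rfl⟩
    rw [← hN] at hdiv
    have hN0 : N ≠ 0 := hN ▸ Nat.card_pos.ne'
    refine S0144.result p r (N.factorization p) (if r = p then 0 else N.factorization r) hp hr ?_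
    rw [← hN]
    refine Nat.eq_of_factorization_eq hN0 (mul_ne_zero (pow_ne_zero _ hp.ne_zero)
      (pow_ne_zero _ hr.ne_zero)) fun s => ?_
    rw [Nat.factorization_mul (pow_ne_zero _ hp.ne_zero) (pow_ne_zero _ hr.ne_zero),
      hp.factorization_pow, hr.factorization_pow, Finsupp.add_apply, Finsupp.single_apply,
      Finsupp.single_apply]
    by_cases hs : s ∣ N ∧ s.Prime
    · rcases hdiv s hs.2 hs.1 with rfl | rfl
      · by_cases hrp : r = s
        · subst hrp; simp
        · simp [hrp]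
      · by_cases hrp : s = p
        · subst hrp; simp
        · simp [hrp, Ne.symm hrp]
    · have h0 : N.factorization s = 0 := by
        rcases not_and_or.mp hs with h' | h'
        · exact Nat.factorization_eq_zero_of_not_dvd h'
        · exact Nat.factorization_eq_zero_of_not_prime _ h'
      by_cases e1 : p = s
      · subst e1
        by_cases hrp : r = p
        · subst hrp; simp [h0]
        · simp [hrp, h0]
      · by_cases e2 : r = s
        · subst e2
          simp [e1, Ne.symm e1, h0]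
        · simp [e1, e2, h0]
  haveI : Nontrivial (G ⧸ center G) :=
    ⟨⟨(g₀ : G ⧸ center G), 1, fun e => hg₀ ((QuotientGroup.eq_one_iff g₀).mp e)⟩⟩
  obtain ⟨Ab, t, hAb, hAb1, -, ht, hAbp, -⟩ := H19.exists_normal_elementary (G := G ⧸ center G)
  haveI : Fact t.Prime := ⟨ht⟩
  haveI := hAb
  set X := Ab.comap (QuotientGroup.mk' (center G))
  have hZX : center G ≤ X := fun z hz => by
    rw [mem_comap, QuotientGroup.mk'_apply, (QuotientGroup.eq_one_iff z).mpr hz]; exact one_mem _
  obtain ⟨S⟩ := (inferInstance : Nonempty (Sylow t X))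
  set R := (S : Subgroup X).map X.subtype
  have hXR : X ≤ R ⊔ center G := by
    rw [← relIndex_eq_one]
    obtain ⟨k, hk⟩ := IsPGroup.iff_card.mp hAbp
    refine Nat.eq_one_of_dvd_coprimes (a := t ^ k) (b := (S : Subgroup X).index)
      (((ht.coprime_iff_not_dvd).mpr S.not_dvd_index).pow_left k) ?_ ?_
    · refine (relIndex_dvd_of_le_left X (le_sup_right : center G ≤ R ⊔ center G)).trans ?_
      rw [← hk]
      have hm : (center G).relIndex X = Nat.card (X.map (QuotientGroup.mk' (center G))) := by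
        rw [← relIndex_ker, QuotientGroup.ker_mk']
      rw [hm, map_comap_eq_self_of_surjective (QuotientGroup.mk'_surjective _)]
    · have h1 : (S : Subgroup X).index = R.relIndex X := by
        rw [Subgroup.relIndex, show R.subgroupOf X = (S : Subgroup X) from
          comap_map_eq_self_of_injective X.subtype_injective _]
      rw [h1]
      exact relIndex_dvd_of_le_left X le_sup_left
  have hSn : (S : Subgroup X).Normal := by
    rw [← normalizer_eq_top_iff, eq_top_iff]
    intro x _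
    obtain ⟨a, ha, z, hz, hx⟩ := mem_sup_of_normal_right.mp (hXR x.2)
    obtain ⟨a', ha', rfl⟩ := ha
    have hzX : z ∈ X := hZX hz
    have : x = a' * ⟨z, hzX⟩ := Subtype.ext hx.symm
    rw [this]
    refine mul_mem (le_normalizer ha') (mem_normalizer_iff.mpr fun w => ?_)
    have e : (⟨z, hzX⟩ : X) * w * ⟨z, hzX⟩⁻¹ = w := Subtype.ext (by
      simp only [coe_mul, coe_inv]
      rw [← mem_center_iff.mp hz (w : G), mul_inv_cancel_right])
    rw [e]
  haveI hRn : R.Normal := by
    refine ⟨fun a ha g => ?_⟩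
    obtain ⟨a', ha', rfl⟩ := ha
    have hconjX : g * (a' : G) * g⁻¹ ∈ X := Normal.conj_mem (hAb.comap _) _ a'.2 g
    refine ⟨⟨_, hconjX⟩, ?_, rfl⟩
    obtain ⟨k, hk⟩ := IsPGroup.iff_orderOf.mp S.isPGroup' ⟨a', ha'⟩
    rw [Subgroup.orderOf_mk, ← orderOf_coe] at hk
    have ho : orderOf (⟨g * (a' : G) * g⁻¹, hconjX⟩ : X) = t ^ k := by
      rw [Subgroup.orderOf_mk, ← hk]
      simpa using MulEquiv.orderOf_eq (MulAut.conj g) (a' : G)
    obtain ⟨S', hS'⟩ := (IsPGroup.of_card (p := t) (n := k)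
      (G := zpowers (⟨g * (a' : G) * g⁻¹, hconjX⟩ : X)) (by rw [Nat.card_zpowers, ho])).exists_le_sylow
    haveI := Sylow.unique_of_normal S hSn
    rw [Subsingleton.elim S' S] at hS'
    exact hS' (mem_zpowers _)
  have hRp : IsPGroup t R := S.isPGroup'.map _
  obtain ⟨a₀, ha₀R, ha₀⟩ : ∃ a ∈ R, a ∉ center G := by
    by_contra hall
    push Not at hall
    refine hAb1 ((eq_bot_iff).mpr fun x hx => ?_)
    obtain ⟨x, rfl⟩ := QuotientGroup.mk'_surjective _ x
    rw [mem_bot]
    exact (QuotientGroup.eq_one_iff x).mpr ((sup_le hall le_rfl : R ⊔ center G ≤ center G) (hXR hx))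
  -- `R` is abelian modulo nothing: it has a noncentral central element
  obtain ⟨a, haR, ha, haZ⟩ : ∃ a ∈ R, a ∉ center G ∧ ∀ y ∈ R, y * a = a * y := by
    by_contra hno
    push Not at hno
    have hcen : ∀ z : R, z ∈ center R → (z : G) ∈ center G := by
      intro z hz
      by_contra hzZ
      obtain ⟨y, hy, hne⟩ := hno z z.2 hzZ
      exact hne (congrArg Subtype.val (mem_center_iff.mp hz ⟨y, hy⟩))
    haveI : Nontrivial (R ⧸ center R) :=
      ⟨⟨((⟨a₀, ha₀R⟩ : R) : R ⧸ center R), 1, fun e => ha₀ (hcen _ ((QuotientGroup.eq_one_iff _).mp e))⟩⟩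
    haveI := (hRp.to_quotient (center R)).center_nontrivial
    obtain ⟨fb, hfb⟩ := exists_ne (1 : center (R ⧸ center R))
    obtain ⟨f, hf⟩ := QuotientGroup.mk'_surjective (center R) (fb : R ⧸ center R)
    have hfR : f ∉ center R := fun h0 => hfb (Subtype.ext (by
      rw [← hf, OneMemClass.coe_one]; exact (QuotientGroup.eq_one_iff f).mpr h0))
    have hfZ : (f : G) ∉ center G := fun h0 => hfR (mem_center_iff.mpr fun y =>
      Subtype.ext (mem_center_iff.mp h0 y))
    obtain ⟨s, hs, hsn, hst⟩ := exists_other n h hp₁ hp₂ hne h₁ h₂ t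
    haveI : Fact s.Prime := ⟨hs⟩
    obtain ⟨v, hvC, hvZ, k, hk⟩ := exists_mem_centralizer n h hsn hfZ
    have hvf : v * f = f * v := mem_centralizer_singleton_iff.mp hvC
    apply hfR
    rw [mem_center_iff]
    intro y
    apply Subtype.ext
    simp only [coe_mul]
    have hzy : ∀ w : R, (f : G) * w * (f : G)⁻¹ * (w : G)⁻¹ ∈ center G := by
      intro w
      have h1 := mem_center_iff.mp fb.2 (w : R ⧸ center R)
      rw [← hf] at h1
      have h2 : f * w * f⁻¹ * w⁻¹ ∈ center R := by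
        rw [← QuotientGroup.eq_one_iff]
        show QuotientGroup.mk' (center R) (f * w * f⁻¹ * w⁻¹) = 1
        rw [map_mul, map_mul, map_mul, map_inv, map_inv]
        rw [show QuotientGroup.mk' (center R) f * QuotientGroup.mk' (center R) w =
          QuotientGroup.mk' (center R) w * QuotientGroup.mk' (center R) f from h1.symm]
        group
      simpa using hcen _ h2
    set y1 := v * (y : G) * v⁻¹
    have hy1 : y1 ∈ R := hRn.conj_mem _ y.2 v
    set e := y1 * (y : G)⁻¹
    have he : e ∈ R := R.mul_mem hy1 (R.inv_mem y.2)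
    have hef : e ∈ centralizer ({(f : G)} : Set G) := by
      have hz := hzy y
      set z := (f : G) * y * (f : G)⁻¹ * (y : G)⁻¹
      have h3 : (f : G) * y * (f : G)⁻¹ = z * y := by simp [z]
      have h4 : (f : G) * y1 * (f : G)⁻¹ = z * y1 := by
        calc (f : G) * y1 * (f : G)⁻¹ = (f * v) * y * (f * v)⁻¹ := by simp [y1]; group
          _ = v * ((f : G) * y * (f : G)⁻¹) * v⁻¹ := by rw [← hvf]; group
          _ = v * z * y * v⁻¹ := by rw [h3]; group
          _ = z * y1 := by rw [mem_center_iff.mp hz v]; simp [y1]; group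
      rw [mem_centralizer_singleton_iff, eq_comm, ← mul_inv_eq_iff_eq_mul]
      calc (f : G) * e * (f : G)⁻¹
          = ((f : G) * y1 * (f : G)⁻¹) * ((f : G) * y * (f : G)⁻¹)⁻¹ := by simp [e]; group
        _ = z * (y1 * (y : G)⁻¹) * z⁻¹ := by rw [h3, h4]; group
        _ = e := by rw [← mem_center_iff.mp hz, mul_inv_cancel_right]
    have hev : Commute v e :=
      commute_of_mem n h hp₁ hp₂ hne h₁ h₂ hfZ hvC hef
    have hi : ∀ i : ℕ, v ^ i * y * (v ^ i)⁻¹ = e ^ i * y := by
      intro i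
      induction i with
      | zero => simp
      | succ i ih =>
        calc v ^ (i + 1) * (y : G) * (v ^ (i + 1))⁻¹ = v * (v ^ i * y * (v ^ i)⁻¹) * v⁻¹ := by
              rw [pow_succ']; group
          _ = (v * e * v⁻¹) ^ i * y1 := by rw [ih, conj_pow]; simp [y1]
          _ = e ^ (i + 1) * y := by
              rw [hev.eq, mul_inv_cancel_right, pow_succ]; simp [e, mul_assoc]
    have h5 := hi (s ^ k)
    rw [← hk, pow_orderOf_eq_one, inv_one, one_mul, mul_one] at h5
    have h6 : e ^ s ^ k = 1 := by rw [← hk]; exact mul_eq_right.mp h5.symm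
    obtain ⟨l, hl⟩ := IsPGroup.iff_orderOf.mp hRp ⟨e, he⟩
    rw [Subgroup.orderOf_mk] at hl
    have he1 : e = 1 := by
      rw [← orderOf_eq_one_iff]
      exact Nat.eq_one_of_dvd_coprimes (((Nat.coprime_primes hs ht).mpr hst).pow k l)
        (orderOf_dvd_of_pow_eq_one h6) hl.dvd
    have hvy : (y : G) ∈ centralizer ({v} : Set G) := by
      rw [mem_centralizer_singleton_iff]
      have : v * (y : G) * v⁻¹ = y := mul_inv_eq_one.mp he1
      exact (mul_inv_eq_iff_eq_mul.mp this).symm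
    rw [eq_of_mem n h hp₁ hp₂ hne h₁ h₂ hfZ hvZ hvC, mem_centralizer_singleton_iff] at hvy
    exact hvy
  -- the centralizer of `a` is normal
  set C := centralizer ({a} : Set G) with hC
  have hCn : ∀ g : G, g ∈ normalizer (C : Set G) := by
    intro g
    have hga : g * a * g⁻¹ ∈ C := mem_centralizer_singleton_iff.mpr (haZ _ (hRn.conj_mem a haR g))
    have hgaZ : g * a * g⁻¹ ∉ center G := fun h0 => ha (by
      have h2 := Normal.conj_mem (inferInstance : (center G).Normal) _ h0 g⁻¹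
      simpa [mul_assoc] using h2)
    have hCga := eq_of_mem n h hp₁ hp₂ hne h₁ h₂ ha hgaZ hga
    rw [mem_normalizer_iff]
    intro w
    show w ∈ C ↔ g * w * g⁻¹ ∈ C
    conv_rhs => rw [hC, ← hCga, mem_centralizer_singleton_iff]
    rw [hC, mem_centralizer_singleton_iff]
    constructor
    · intro e
      calc g * w * g⁻¹ * (g * a * g⁻¹) = g * (w * a) * g⁻¹ := by group
        _ = _ := by rw [e]; group
    · intro e
      calc w * a = g⁻¹ * ((g * w * g⁻¹) * (g * a * g⁻¹)) * g := by group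
        _ = _ := by rw [e]; group
  haveI : Fact p₁.Prime := ⟨hp₁⟩
  haveI : Fact p₂.Prime := ⟨hp₂⟩
  obtain ⟨u, hu, huC, j, huo⟩ := exists_normalizer_notMem n h hp₁ hp₂ hne h₁ h₂ ha h₁
  have huZ : u ∉ center G := fun h0 =>
    huC (mem_centralizer_singleton_iff.mpr (mem_center_iff.mp h0 a).symm)
  obtain ⟨w, hwu, hwZ, l, hwo⟩ := exists_mem_centralizer n h h₂ huZ
  have hwC : w ∉ C := by
    intro hw
    refine huC ?_
    have h1 := eq_of_mem n h hp₁ hp₂ hne h₁ h₂ ha hwZ hw
    rw [← h1, mem_centralizer_singleton_iff]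
    exact (mem_centralizer_singleton_iff.mp hwu).symm
  refine key n h hp₁ hp₂ hne h₁ h₂ ha hu (hCn w) huC hwC hp₁ hp₂ hne h₂ huo hwo ?_
  rw [show u * w = w * u from (mem_centralizer_singleton_iff.mp hwu).symm]
  simp

end TwoSizes

/-- Itô: the common size of noncentral classes is a prime power. -/
theorem exists_prime_pow_of_two_sizes (n : ℕ) (hn : 1 < n)
    (h : ∀ x : G, (centralizer ({x} : Set G)).index = 1 ∨ (centralizer ({x} : Set G)).index = n)
    (hex : ∃ x : G, (centralizer ({x} : Set G)).index = n) :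
    ∃ p a : ℕ, p.Prime ∧ 0 < a ∧ n = p ^ a := by
  obtain ⟨x, hx⟩ := hex
  have hxZ : x ∉ center G := by
    intro hc
    rw [show centralizer ({x} : Set G) = ⊤ from eq_top_iff.mpr fun u _ =>
      mem_centralizer_singleton_iff.mpr (mem_center_iff.mp hc u), index_top] at hx
    omega
  by_cases hall : ∀ s : ℕ, s.Prime → s ∣ n → s = n.minFac
  · refine ⟨n.minFac, n.primeFactorsList.length, Nat.minFac_prime hn.ne', ?_,
      Nat.eq_prime_pow_of_unique_prime_dvd (by omega) fun {d} hd hdn => hall d hd hdn⟩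
    by_contra h0
    have := Nat.eq_prime_pow_of_unique_prime_dvd (n := n) (p := n.minFac) (by omega) fun {d} hd hdn => hall d hd hdn
    rw [show n.primeFactorsList.length = 0 by omega, pow_zero] at this
    omega
  · push Not at hall
    obtain ⟨s, hs, hsn, hne⟩ := hall
    exact (TwoSizes.false_of_two_primes n h hs (Nat.minFac_prime hn.ne') hne hsn (Nat.minFac_dvd n) hxZ).elim

/-- The structure of a group with two class sizes. -/
theorem two_sizes_structure (n : ℕ) (hn : 1 < n)
    (h : ∀ x : G, (centralizer ({x} : Set G)).index = 1 ∨ (centralizer ({x} : Set G)).index = n)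
    {p a : ℕ} [hp : Fact p.Prime] (ha : n = p ^ a) (P : Sylow p G) :
    (P : Subgroup G).Normal ∧
      (∃ N : Subgroup G, N.Normal ∧ N.IsComplement' (P : Subgroup G) ∧ IsMulCommutative N ∧
        ∀ x ∈ N, ∀ y ∈ (P : Subgroup G), x * y = y * x) ∧
      ∃ A : Subgroup (P : Subgroup G), A.Normal ∧ IsMulCommutative A ∧ ∀ y : (P : Subgroup G), y ^ p ∈ A := by
  classical
  let N : Subgroup G :=
    { carrier := {x | x ∈ center G ∧ ¬ p ∣ orderOf x}
      one_mem' := ⟨one_mem _, by rw [orderOf_one]; exact hp.out.not_dvd_one⟩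
      mul_mem' := fun {x y} ⟨hx, hx'⟩ ⟨hy, hy'⟩ => ⟨mul_mem hx hy, fun hd => by
        rcases hp.out.dvd_mul.mp (hd.trans (((show Commute x y from (mem_center_iff.mp hy x))).orderOf_mul_dvd_mul_orderOf)) with h' | h'
        · exact hx' h'
        · exact hy' h'⟩
      inv_mem' := fun {x} ⟨hx, hx'⟩ => ⟨inv_mem hx, by rwa [orderOf_inv]⟩ }
  have hNc : ∀ x ∈ N, ∀ y : G, x * y = y * x := fun x hx y => (mem_center_iff.mp hx.1 y).symm
  haveI hNn : N.Normal := ⟨fun x hx g => by rw [← hNc x hx g, mul_inv_cancel_right]; exact hx⟩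
  have hcompl : N.IsComplement' (P : Subgroup G) := by
    have hNp : (Nat.card N).Coprime (Nat.card (P : Subgroup G)) := by
      rw [P.card_eq_multiplicity]
      refine (Nat.Coprime.pow_left _ ((hp.out.coprime_iff_not_dvd).mpr fun hd => ?_)).symm
      obtain ⟨x, hx⟩ := exists_prime_orderOf_dvd_card' (G := N) p hd
      rw [← orderOf_coe] at hx
      exact x.2.2 (hx ▸ dvd_rfl)
    have htop : N ⊔ (P : Subgroup G) = ⊤ := by
      rw [← index_eq_one, Nat.eq_one_iff_not_exists_prime_dvd]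
      intro r hr hrd
      haveI : Fact r.Prime := ⟨hr⟩
      rcases eq_or_ne r p with rfl | hrp
      · exact P.not_dvd_index (hrd.trans (index_dvd_of_le le_sup_right))
      · obtain ⟨R⟩ := (inferInstance : Nonempty (Sylow r G))
        refine R.not_dvd_index (hrd.trans (index_dvd_of_le (le_trans (show (R : Subgroup G) ≤ N from fun x hx => ?_) le_sup_left)))
        refine ⟨TwoSizes.sylow_le_center_of_not_dvd n h (fun hd => hrp ((Nat.prime_dvd_prime_iff_eq hr hp.out).mp
          (hr.dvd_of_dvd_pow (ha ▸ hd)))) R hx, fun hd => ?_⟩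
        obtain ⟨k, hk⟩ := IsPGroup.iff_orderOf.mp R.isPGroup' ⟨x, hx⟩
        rw [Subgroup.orderOf_mk] at hk
        exact hrp ((Nat.prime_dvd_prime_iff_eq hp.out hr).mp (hp.out.dvd_of_dvd_pow (hk ▸ hd))).symm
    have hdis : Disjoint N (P : Subgroup G) := by
      rw [disjoint_iff]; exact inf_eq_bot_of_coprime hNp
    exact isComplement'_of_disjoint_and_mul_eq_univ hdis (by
      rw [← normal_mul, htop, coe_top])
  have hPn : (P : Subgroup G).Normal := by
    refine ⟨fun y hy g => ?_⟩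
    obtain ⟨x, hx, z, hz, rfl⟩ := mem_sup_of_normal_left.mp (hcompl.sup_eq_top.ge (mem_top g))
    have h1 : z * y * z⁻¹ ∈ (P : Subgroup G) := mul_mem (mul_mem hz hy) (inv_mem hz)
    rw [show x * z * y * (x * z)⁻¹ = x * (z * y * z⁻¹) * x⁻¹ by group, hNc x hx, mul_inv_cancel_right]
    exact h1
  refine ⟨hPn, ⟨N, hNn, hcompl, ⟨⟨fun x y => Subtype.ext (hNc x x.2 y)⟩⟩, fun x hx y _ => hNc x hx y⟩, ?_⟩
  obtain ⟨A, hAn, hAc, hAmax⟩ := H24.exists_maximal_normal_abelian (P : Subgroup G)
  haveI := hAn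
  haveI := hAc
  refine ⟨A, hAn, hAc, fun g => ?_⟩
  by_contra hgp
  have hCA := H24.centralizer_eq_of_maximal_normal_abelian P.isPGroup' hAc hAmax
  -- `C(g) = C(g ^ p)`
  have hgZ : ((g ^ p : (P : Subgroup G)) : G) ∉ center G := fun h0 => hgp (by
    rw [← hCA]
    exact Subgroup.mem_centralizer_iff.mpr fun x _ => Subtype.ext (mem_center_iff.mp h0 x))
  have hgZ' : (g : G) ∉ center G := fun h0 => hgZ (by rw [SubgroupClass.coe_pow]; exact pow_mem h0 p)
  have heq := TwoSizes.eq_of_le n h hgZ' hgZ (fun u hu => by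
    rw [mem_centralizer_singleton_iff] at hu ⊢
    rw [SubgroupClass.coe_pow]
    exact Commute.pow_right (show Commute u (g : G) from hu) p)
  have hfix : ∀ x : (P : Subgroup G), g ^ p * x * (g ^ p)⁻¹ = x → g * x * g⁻¹ = x := by
    intro x hx
    have h1 : (x : G) ∈ centralizer ({((g ^ p : (P : Subgroup G)) : G)} : Set G) := by
      rw [mem_centralizer_singleton_iff]
      exact congrArg Subtype.val (mul_inv_eq_iff_eq_mul.mp hx).symm
    rw [← heq, mem_centralizer_singleton_iff] at h1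
    exact mul_inv_eq_iff_eq_mul.mpr (Subtype.ext h1.symm)
  -- an element of `A` moved to a fixed element
  set F : Subgroup (P : Subgroup G) := A ⊓ centralizer ({g} : Set (P : Subgroup G))
  have hFne : ¬ A ≤ centralizer ({g} : Set (P : Subgroup G)) := by
    intro hle
    refine hgp (hCA ▸ Subgroup.mem_centralizer_iff.mpr fun x hx => ?_)
    exact (Commute.pow_right (show Commute x g from mem_centralizer_singleton_iff.mp (hle hx)) p)
  -- in `A ⊔ ⟨g⟩` find `x ∈ A` with `[g, x]` of order `p` and fixed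
  set H := A ⊔ zpowers g
  have hFn : (F.subgroupOf H).Normal := by
    rw [normal_subgroupOf_iff (inf_le_left.trans le_sup_left)]
    intro x u hx hu
    have hcent : H ≤ centralizer (F : Set (P : Subgroup G)) := by
      refine sup_le (fun a ha => Subgroup.mem_centralizer_iff.mpr fun b hb => ?_) (zpowers_le.mpr
        (Subgroup.mem_centralizer_iff.mpr fun b hb => mem_centralizer_singleton_iff.mp hb.2))
      exact congrArg Subtype.val (mul_comm' (⟨b, hb.1⟩ : A) ⟨a, ha⟩)
    rw [← Subgroup.mem_centralizer_iff.mp (hcent hu) x hx, mul_inv_cancel_right]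
    exact hx
  haveI := hFn
  set π := QuotientGroup.mk' (F.subgroupOf H)
  haveI : (A.subgroupOf H).Normal := hAn.subgroupOf H
  obtain ⟨xb, hxb, hxb1⟩ := (bot_or_exists_ne_one _).resolve_left
    (H24.inf_center_ne_bot ((P.isPGroup'.to_subgroup H).to_quotient (F.subgroupOf H))
      (N := (A.subgroupOf H).map π) (hN := fun h0 => hFne fun x hx => by
        have h1 := h0.le (mem_map_of_mem π (show (⟨x, mem_sup_left hx⟩ : H) ∈ A.subgroupOf H from mem_subgroupOf.mpr hx))
        exact (mem_subgroupOf.mp ((QuotientGroup.eq_one_iff _).mp (mem_bot.mp h1))).2))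
  obtain ⟨x, hxA, rfl⟩ := hxb.1
  set b : (P : Subgroup G) := g * x * g⁻¹ * (x : (P : Subgroup G))⁻¹
  have hb : b ∈ F := by
    have h1 := mem_center_iff.mp hxb.2 (π ⟨g, mem_sup_right (mem_zpowers g)⟩)
    have h2 : (⟨g, mem_sup_right (mem_zpowers g)⟩ * x * (⟨g, mem_sup_right (mem_zpowers g)⟩ : H)⁻¹ * x⁻¹) ∈
        F.subgroupOf H := by
      rw [← QuotientGroup.eq_one_iff]
      show π _ = 1
      rw [map_mul, map_mul, map_mul, h1, map_inv, map_inv]
      group
    simpa [mem_subgroupOf] using h2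
  have hxg : ¬ Commute g (x : (P : Subgroup G)) := fun hc => hxb1 ((QuotientGroup.eq_one_iff x).mpr
    (mem_subgroupOf.mpr ⟨hxA, mem_centralizer_singleton_iff.mpr hc.symm.eq⟩))
  have hb1 : b ≠ 1 := fun h0 => hxg (mul_inv_eq_iff_eq_mul.mp (mul_inv_eq_one.mp h0))
  obtain ⟨k, hk⟩ := IsPGroup.iff_orderOf.mp P.isPGroup' b
  have hk0 : k ≠ 0 := fun h0 => hb1 (orderOf_eq_one_iff.mp (by rw [hk, h0, pow_zero]))
  set m := p ^ (k - 1)
  have hbc : Commute g b := (mem_centralizer_singleton_iff.mp hb.2).symm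
  have hi : ∀ (y : (P : Subgroup G)) (c : (P : Subgroup G)), Commute g c → g * y * g⁻¹ = c * y →
      ∀ i : ℕ, g ^ i * y * (g ^ i)⁻¹ = c ^ i * y := by
    intro y c hc hy i
    induction i with
    | zero => simp
    | succ i ih =>
      calc g ^ (i + 1) * y * (g ^ (i + 1))⁻¹ = g * (g ^ i * y * (g ^ i)⁻¹) * g⁻¹ := by
            rw [pow_succ']; group
        _ = (g * c * g⁻¹) ^ i * (g * y * g⁻¹) := by rw [ih, conj_pow]; group
        _ = c ^ (i + 1) * y := by rw [hc.eq, mul_inv_cancel_right, hy, pow_succ]; group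
  have hxb' : g * (x : (P : Subgroup G)) * g⁻¹ = b * x := by simp [b]
  have hbx : Commute b (x : (P : Subgroup G)) := congrArg Subtype.val (mul_comm' (⟨b, hb.1⟩ : A) ⟨x, hxA⟩)
  have hxm : g * (x : (P : Subgroup G)) ^ m * g⁻¹ = b ^ m * (x : (P : Subgroup G)) ^ m := by
    rw [← conj_pow, hxb', hbx.mul_pow]
  have hp' := hi _ _ (hbc.pow_right m) hxm p
  have hbmp : (b ^ m) ^ p = 1 := by
    rw [← pow_mul, ← pow_succ, show k - 1 + 1 = k by omega, ← hk, pow_orderOf_eq_one]
  rw [hbmp, one_mul] at hp'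
  have := hfix _ hp'
  rw [hxm, mul_eq_right] at this
  have hd := Nat.le_of_dvd (pow_pos hp.out.pos _) (orderOf_dvd_of_pow_eq_one this)
  rw [hk] at hd
  exact absurd hd (not_le.mpr (Nat.pow_lt_pow_right hp.out.one_lt (by omega)))

end Cfsg.Agent.H88
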