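import Mathlib
import Cfsg.Agent.H19.MinimalNormal
import Cfsg.Agent.H25.Burnside

/-! Groups whose maximal subgroups have prime or prime-square index are solvable. -/

namespace Cfsg.Agent.H88

open Subgroup

/-- A group of order dividing 24 acting on four points is solvable. -/
theorem isSolvable_perm_of_card_four {α : Type*} [Finite α] (h : Nat.card α = 4) :
    Group.IsSolvable (Equiv.Perm α) :=
  Cfsg.Agent.H25.isSolvable_of_card_eq_mul_pow (p := 2) (q := 3) (a := 3) (b := 1) Nat.prime_two
    Nat.prime_three (by rw [Nat.card_perm, h]; rfl)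

/-- P. Hall: maximal subgroups of index `p` or `p²` force solvability. -/
theorem isSolvable_of_maximal_index_sq : ∀ (n : ℕ) (G : Type*) [Group G] [Finite G],
    Nat.card G = n → (∀ M : Subgroup G, IsCoatom M → ∃ p : ℕ, p.Prime ∧ (M.index = p ∨ M.index = p ^ 2)) →
    Group.IsSolvable G := by
  intro n
  induction n using Nat.strong_induction_on with
  | _ n ih =>
  intro G _ _ hn h
  rcases subsingleton_or_nontrivial G with hs | hs
  · infer_instance
  obtain ⟨N, hN, hN0, -, hNmin⟩ := H19.exists_minimalNormal_le (⊤ : Subgroup G) top_ne_bot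
  haveI := hN
  have hq : Group.IsSolvable (G ⧸ N) := by
    refine ih _ ?_ (G ⧸ N) rfl fun M hM => ?_
    · rw [← hn, card_eq_card_quotient_mul_card_subgroup N]
      exact lt_mul_right Nat.card_pos ((one_lt_card_iff_ne_bot _).2 hN0)
    · have hM' : IsCoatom (M.comap (QuotientGroup.mk' N)) :=
        isCoatom_comap_of_surjective (QuotientGroup.mk'_surjective N) hM
      obtain ⟨p, hp, hi⟩ := h _ hM'
      rw [index_comap_of_surjective _ (QuotientGroup.mk'_surjective N)] at hi
      exact ⟨p, hp, hi⟩
  suffices hNs : Group.IsSolvable N from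
    Group.isSolvable_of_ker_le_range N.subtype (QuotientGroup.mk' N) (by simp)
  by_contra hNs
  -- the largest prime divisor of `|N|`
  have hN1 : Nat.card N ≠ 1 := ((one_lt_card_iff_ne_bot _).2 hN0).ne'
  obtain ⟨p, hp, hpmax⟩ : ∃ p ∈ (Nat.card N).primeFactors, ∀ q ∈ (Nat.card N).primeFactors, q ≤ p := by
    have hne : (Nat.card N).primeFactors.Nonempty := by
      rw [Nat.nonempty_primeFactors]
      exact lt_of_le_of_ne Nat.card_pos (Ne.symm hN1)
    exact ⟨_, Finset.max'_mem _ hne, fun q hq => Finset.le_max' _ q hq⟩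
  rw [Nat.mem_primeFactors] at hp
  haveI : Fact p.Prime := ⟨hp.1⟩
  let P : Sylow p N := default
  set P' := (P : Subgroup N).map N.subtype with hP'
  have hfrat : normalizer (P' : Set G) ⊔ N = ⊤ := Sylow.normalizer_sup_eq_top P
  have hnt : normalizer (P' : Set G) ≠ ⊤ := by
    intro he
    haveI : P'.Normal := normalizer_eq_top_iff.1 he
    rcases hNmin P' inferInstance (map_subtype_le _) with h0 | h0
    · rw [hP', map_eq_bot_iff_of_injective _ N.subtype_injective] at h0
      exact P.ne_bot_of_dvd_card hp.2.1 h0
    · haveI : Group.IsNilpotent (P : Subgroup N) := P.isPGroup'.isNilpotent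
      haveI : Group.IsSolvable (P : Subgroup N) := inferInstance
      apply hNs
      rw [← h0, hP']
      exact Group.isSolvable_of_surjective (f := ((P : Subgroup N).equivMapOfInjective N.subtype N.subtype_injective).toMonoidHom)
        ((P : Subgroup N).equivMapOfInjective N.subtype N.subtype_injective).surjective
  obtain ⟨M, hM, hle⟩ := (eq_top_or_exists_le_coatom (normalizer (P' : Set G))).resolve_left hnt
  have hMN : M ⊔ N = ⊤ := top_unique (hfrat ▸ sup_le_sup hle le_rfl)
  have hidx : M.index = M.relIndex N := by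
    rw [← relIndex_top_right, ← hMN, sup_comm]
    have h1 := Subgroup.card_mul_index (M.subgroupOf (N ⊔ M))
    have e : Nat.card (N ⊔ M : Subgroup G) = Nat.card M * M.relIndex N := by
      have h2 : N.relIndex (N ⊔ M) = N.relIndex M := by rw [sup_comm, relIndex_sup_right]
      have h3 : Nat.card N * N.relIndex (N ⊔ M) = Nat.card (N ⊔ M : Subgroup G) := by
        rw [relIndex, ← Nat.card_congr (subgroupOfEquivOfLe (le_sup_left : N ≤ N ⊔ M)).toEquiv, card_mul_index]
      have h4 : Nat.card (N ⊓ M : Subgroup G) * N.relIndex M = Nat.card M := by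
        rw [← inf_relIndex_right, relIndex,
          ← Nat.card_congr (subgroupOfEquivOfLe (inf_le_right : N ⊓ M ≤ M)).toEquiv, card_mul_index]
      have h5 : Nat.card (N ⊓ M : Subgroup G) * M.relIndex N = Nat.card N := by
        rw [inf_comm, ← inf_relIndex_right M N, relIndex,
          ← Nat.card_congr (subgroupOfEquivOfLe (inf_le_right : M ⊓ N ≤ N)).toEquiv, card_mul_index]
      rw [← h3, h2, ← h4, ← h5]; ring
    rw [Nat.card_congr (subgroupOfEquivOfLe (le_sup_right : M ≤ N ⊔ M)).toEquiv, e] at h1
    exact Nat.eq_of_mul_eq_mul_left Nat.card_pos h1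
  -- the index is congruent to one
  have hmod : M.index ≡ 1 [MOD p] := by
    rw [hidx]
    set M₁ := M.subgroupOf N with hM₁
    have hNP : normalizer ((P : Subgroup N) : Set N) ≤ M₁ := by
      intro x hx
      rw [hM₁, mem_subgroupOf]
      refine hle (mem_normalizer_iff.2 fun y => ?_)
      have hx' := mem_normalizer_iff.1 hx
      constructor
      · rintro ⟨z, hz, rfl⟩
        exact ⟨x * z * x⁻¹, (hx' z).1 hz, rfl⟩
      · rintro ⟨z, hz, hzy⟩
        refine ⟨x⁻¹ * z * x, ?_, ?_⟩
        · refine (hx' _).2 ?_
          have e : x * (x⁻¹ * z * x) * x⁻¹ = z := by group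
          rw [e]; exact hz
        · simp only [coe_subtype] at hzy ⊢
          push_cast
          rw [hzy]; group
    have hPM : (P : Subgroup N) ≤ M₁ := le_normalizer.trans hNP
    have ha : (normalizer ((P : Subgroup N) : Set N)).index ≡ 1 [MOD p] := by
      refine Nat.ModEq.trans ?_ (card_sylow_modEq_one p N)
      rw [P.card_eq_index_normalizer]
      rfl
    have hb : (normalizer ((P : Subgroup N) : Set N)).relIndex M₁ ≡ 1 [MOD p] := by
      have e : (normalizer ((P : Subgroup N) : Set N)).relIndex M₁ = Nat.card (Sylow p M₁) := by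
        rw [(P.subtype hPM).card_eq_index_normalizer]
        show (normalizer ((P : Subgroup N) : Set N)).relIndex M₁ =
          (normalizer (((P : Subgroup N).subgroupOf M₁ : Subgroup M₁) : Set M₁)).index
        rw [← subgroupOf_normalizer_eq hPM]
        rfl
      rw [e]; exact card_sylow_modEq_one p M₁
    have := relIndex_mul_index hNP
    rw [← this] at ha
    have h2 : (normalizer ((P : Subgroup N) : Set N)).relIndex M₁ * M₁.index ≡ M₁.index [MOD p] := by
      simpa using hb.mul_right M₁.index
    exact h2.symm.trans ha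
  obtain ⟨q, hq, hqi⟩ := h M hM
  have hqN : q ∣ Nat.card N := by
    have : q ∣ M.relIndex N := by
      rcases hqi with e | e <;> rw [← hidx, e]
      exact dvd_pow_self q two_ne_zero
    exact this.trans (relIndex_dvd_card M N)
  have hqp : q ≤ p := hpmax q (Nat.mem_primeFactors.2 ⟨hq, hqN, Nat.card_pos.ne'⟩)
  have h1p : 1 < p := hp.1.one_lt
  have hq2 : 2 ≤ q := hq.two_le
  have hidx4 : M.index = 4 := by
    rcases hqi with e | e <;> rw [e] at hmod
    · exfalso
      rcases hqp.eq_or_lt with rfl | hlt
      · simp [Nat.ModEq, Nat.mod_eq_of_lt h1p] at hmod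
      · rw [Nat.ModEq, Nat.mod_eq_of_lt hlt, Nat.mod_eq_of_lt h1p] at hmod
        omega
    · have hdvd : (p : ℕ) ∣ (q + 1) * (q - 1) := by
        rw [← Nat.sq_sub_sq, one_pow]
        exact (Nat.modEq_iff_dvd' (Nat.one_le_pow _ _ hq.pos)).1 hmod.symm
      rcases hp.1.dvd_mul.1 hdvd with hd | hd
      · have hle' := Nat.le_of_dvd (by omega) hd
        have hpq : p = q + 1 ∨ p = q := by omega
        rcases hpq with e2 | e2
        · have hq2' : q = 2 := by
            rcases hq.eq_two_or_odd with h2 | h2
            · exact h2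
            · exfalso
              rcases hp.1.eq_two_or_odd with h3 | h3 <;> omega
          rw [e, hq2']; norm_num
        · subst e2
          exact absurd (Nat.dvd_one.1 ((Nat.dvd_add_right dvd_rfl).1 hd)) hp.1.ne_one
      · have := Nat.le_of_dvd (by omega) hd
        omega
  have hker : True ∧ (M.normalCore ⊓ N = ⊥) := by
    refine ⟨trivial, ?_⟩
    rcases hNmin (M.normalCore ⊓ N) inferInstance inf_le_right with h0 | h0
    · exact h0
    · exfalso
      apply hM.1
      rw [← hMN, eq_comm, sup_eq_left]
      exact (inf_eq_right.1 h0).trans M.normalCore_le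
  haveI : Group.IsSolvable (Equiv.Perm (G ⧸ M)) := isSolvable_perm_of_card_four (by rw [← index_eq_card, hidx4])
  refine hNs (Group.isSolvable_of_isSolvable_injective (f := (MulAction.toPermHom G (G ⧸ M)).comp N.subtype) ?_)
  rw [← MonoidHom.ker_eq_bot_iff, eq_bot_iff]
  intro x hx
  have : (x : G) ∈ M.normalCore ⊓ N := ⟨by rw [normalCore_eq_ker]; exact hx, x.2⟩
  rw [hker.2] at this
  simpa using this

end Cfsg.Agent.H88
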