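import Mathlib
import Cfsg.Agent.H88.ClassBasic
import Cfsg.Agent.H44.ClassTools
import Cfsg.Agent.H45.NormalSylow
import Cfsg.Agent.H21.UniqueSubgroup
import Cfsg.Agent.H89.Nilpotent
import Cfsg.Agent.S4456
import Cfsg.Agent.S4142
import Cfsg.Agent.S0033

/-!
# Camina pairs

If `(G, N)` is a Camina pair then either `G` is a Frobenius group with kernel `N`, or one of `N`,
`G/N` has prime-power order.
-/

namespace Cfsg.Agent.H88

open Subgroup

variable {G : Type*} [Group G] [Finite G] {N : Subgroup G} [N.Normal]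

section Basic

variable (hcam : ∀ g : G, g ∉ N → ∀ n ∈ N, ∃ x : G, x * g * x⁻¹ = g * n)

include hcam

omit [Finite G] [N.Normal] in
/-- All elements of a coset outside `N` have the same order. -/
theorem camina_orderOf_mul {g n : G} (hg : g ∉ N) (hn : n ∈ N) : orderOf (g * n) = orderOf g := by
  obtain ⟨x, hx⟩ := hcam g hg n hn
  rw [← hx]
  have h := MulEquiv.orderOf_eq (MulAut.conj x) g
  simpa using h

omit [N.Normal] in
/-- A `q`-element outside `N` centralizes only `q`-elements of `N`. -/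
theorem camina_centralized_isPPower {q a : ℕ} (hq : q.Prime) {g x : G} (hg : g ∉ N)
    (ho : orderOf g = q ^ a) (hx : x ∈ N) (hcx : Commute g x) : ∃ k, orderOf x = q ^ k := by
  refine ⟨_, Nat.eq_prime_pow_of_unique_prime_dvd (orderOf_pos x).ne' ?_⟩
  intro s hs hsx
  by_contra hne
  have hxo : orderOf (x ^ (orderOf x / s)) = s := orderOf_pow_orderOf_div (orderOf_pos x).ne' hsx
  have h1 := camina_orderOf_mul hcam hg (pow_mem hx (orderOf x / s))
  rw [(hcx.pow_right _).orderOf_mul_eq_mul_orderOf_of_coprime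
    (by rw [ho, hxo]; exact ((Nat.coprime_primes hq hs).mpr (Ne.symm hne)).pow_left a), hxo] at h1
  have : 1 < s := hs.one_lt
  nlinarith [orderOf_pos g]

end Basic

omit [Finite G] in
/-- Every element outside a normal subgroup has a power of prime-power order outside it. -/
theorem exists_primary_pow_notMem [Finite G] {y : G} (hy : y ∉ N) :
    ∃ q m a : ℕ, q.Prime ∧ y ^ m ∉ N ∧ orderOf (y ^ m) = q ^ a ∧ q ∣ N.index := by
  have h1 : orderOf (y : G ⧸ N) ≠ 1 := fun h => hy ((QuotientGroup.eq_one_iff y).mp (orderOf_eq_one_iff.mp h))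
  set q := (orderOf (y : G ⧸ N)).minFac
  have hq : q.Prime := Nat.minFac_prime h1
  have hqy : q ∣ orderOf (y : G ⧸ N) := Nat.minFac_dvd _
  refine ⟨q, ordCompl[q] (orderOf y), (orderOf y).factorization q, hq, fun h => ?_, ?_, ?_⟩
  · have h2 : orderOf (y : G ⧸ N) ∣ ordCompl[q] (orderOf y) := orderOf_dvd_of_pow_eq_one (by
      rw [← QuotientGroup.mk_pow]
      exact (QuotientGroup.eq_one_iff _).mpr h)
    exact Nat.not_dvd_ordCompl hq (orderOf_pos y).ne' (hqy.trans h2)
  · rw [orderOf_pow_of_dvd (Nat.ordCompl_pos q (orderOf_pos y).ne').ne' (Nat.ordCompl_dvd _ q)]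
    exact Nat.div_eq_of_eq_mul_left (Nat.ordCompl_pos q (orderOf_pos y).ne') (Nat.ordProj_mul_ordCompl_eq_self _ q).symm
  · exact hqy.trans (N.index_eq_card ▸ orderOf_dvd_natCard _)

variable (hcam : ∀ g : G, g ∉ N → ∀ n ∈ N, ∃ x : G, x * g * x⁻¹ = g * n)

include hcam

/-- For every prime `r` dividing `|G : N|` the subgroup `N` has a normal `r`-complement. -/
theorem camina_exists_complement {r : ℕ} [hr : Fact r.Prime] (hri : r ∣ N.index) :
    ∃ M : Subgroup G, M.Normal ∧ M ≤ N ∧ ¬ r ∣ Nat.card M ∧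
      ∀ x ∈ N, ¬ r ∣ orderOf x → x ∈ M := by
  obtain ⟨R⟩ := (inferInstance : Nonempty (Sylow r G))
  set H : Subgroup G := N ⊔ (R : Subgroup G)
  set K : Subgroup H := N.subgroupOf H
  have hcardHK : ∃ d, r ^ d = Nat.card (H ⧸ K) ∧ ∀ c, r ^ c ∣ N.index → r ^ c ∣ r ^ d := by
    have h1 : N.relIndex H = N.relIndex (R : Subgroup G) := by
      rw [show H = (R : Subgroup G) ⊔ N from sup_comm _ _, relIndex_sup_right]
    obtain ⟨e, he⟩ := IsPGroup.iff_card.mp R.isPGroup'
    have h2 : N.relIndex H ∣ r ^ e := by rw [h1, ← he]; exact relIndex_dvd_card _ _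
    obtain ⟨d, -, hd⟩ := (Nat.dvd_prime_pow hr.out).mp h2
    refine ⟨d, ?_, fun c hc => ?_⟩
    · rw [← index_eq_card]; exact hd.symm
    · rw [← relIndex_mul_index (show N ≤ H from le_sup_left), hd] at hc
      refine Nat.Coprime.dvd_of_dvd_mul_right ?_ hc
      refine Nat.Coprime.pow_left _ ((hr.out.coprime_iff_not_dvd).mpr fun h => R.not_dvd_index ?_)
      exact h.trans (index_dvd_of_le le_sup_right)
  obtain ⟨d, hd, hdmax⟩ := hcardHK
  have hP : IsPGroup r (H ⧸ K) := IsPGroup.of_card hd.symm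
  have hd1 : r ∣ r ^ d := by simpa using hdmax 1 (by simpa using hri)
  haveI : Nontrivial (H ⧸ K) := by
    rw [← Finite.one_lt_card_iff_nontrivial, ← hd]
    exact lt_of_lt_of_le hr.out.one_lt (Nat.le_of_dvd (pow_pos hr.out.pos d) hd1)
  -- an `r`-element whose image is central in `H/K`
  haveI := hP.center_nontrivial
  obtain ⟨z, hz⟩ := exists_ne (1 : center (H ⧸ K))
  obtain ⟨h0, hh0⟩ := QuotientGroup.mk'_surjective K (z : H ⧸ K)
  obtain ⟨n, hn, ρ, hρ, hh⟩ := mem_sup_of_normal_left.mp h0.2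
  have hρH : ρ ∈ H := mem_sup_right hρ
  set g : H := ⟨ρ, hρH⟩
  have hgz : (g : H ⧸ K) = z := by
    rw [← hh0, QuotientGroup.mk'_apply, eq_comm, QuotientGroup.eq, mem_subgroupOf]
    have : (h0 : G)⁻¹ * ρ = ρ⁻¹ * n⁻¹ * ρ := by rw [← hh]; group
    rw [coe_mul, coe_inv]
    show (h0 : G)⁻¹ * ρ ∈ N
    rw [this]
    simpa using Normal.conj_mem ‹N.Normal› _ (N.inv_mem hn) ρ⁻¹
  have hgN : (g : G) ∉ N := fun h => hz (Subtype.ext (by
    rw [← hgz, OneMemClass.coe_one]; exact (QuotientGroup.eq_one_iff g).mpr h))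
  obtain ⟨a, ha⟩ := IsPGroup.iff_orderOf.mp R.isPGroup' ⟨ρ, hρ⟩
  rw [Subgroup.orderOf_mk] at ha
  set C := centralizer ({g} : Set H)
  have hCp : IsPGroup r C := by
    intro h
    obtain ⟨i, hi⟩ := hP ((h : H) : H ⧸ K)
    rw [← QuotientGroup.mk_pow, QuotientGroup.eq_one_iff, mem_subgroupOf] at hi
    have hc : Commute (g : G) (((h : H) ^ r ^ i : H) : G) := by
      have h1 : (h : H) * g = g * (h : H) := mem_centralizer_singleton_iff.mp h.2
      have h2 : Commute g ((h : H) ^ r ^ i) := (Commute.symm h1).pow_right _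
      exact congrArg Subtype.val h2.eq
    obtain ⟨k, hk⟩ := camina_centralized_isPPower hcam hr.out hgN ha hi hc
    refine ⟨i + k, Subtype.ext (Subtype.ext ?_)⟩
    rw [pow_add, pow_mul]
    simp only [SubgroupClass.coe_pow, OneMemClass.coe_one]
    rw [show ((h : H) : G) ^ r ^ i = (((h : H) ^ r ^ i : H) : G) by simp, ← hk,
      pow_orderOf_eq_one]
  have hCzero : Nat.card C = Nat.card (centralizer ({(g : H ⧸ K)} : Set (H ⧸ K))) := by
    have hcen : centralizer ({(g : H ⧸ K)} : Set (H ⧸ K)) = ⊤ := by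
      rw [eq_top_iff]
      intro x _
      rw [mem_centralizer_singleton_iff, hgz]
      exact mem_center_iff.mp z.2 x
    rw [hcen, card_top, ← hd]
    apply le_antisymm
    · obtain ⟨c, hc⟩ := IsPGroup.iff_card.mp hCp
      rw [hc]
      refine Nat.le_of_dvd (pow_pos hr.out.pos d) (hdmax c ?_)
      rw [← hc]
      have hcen2 := (S4142.result N).mp hcam (g : G) hgN
      refine (?_ : Nat.card C ∣ Nat.card (centralizer ({(g : G)} : Set G))).trans ?_
      · rw [show Nat.card C = Nat.card (C.map H.subtype) from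
          (card_map_of_injective H.subtype_injective).symm]
        refine card_dvd_of_le ?_
        rintro _ ⟨u, hu, rfl⟩
        rw [SetLike.mem_coe, mem_centralizer_singleton_iff] at hu
        rw [mem_centralizer_singleton_iff]
        exact congrArg Subtype.val hu
      · rw [hcen2, index_eq_card]
        exact card_subgroup_dvd_card _
    · have h1 := card_centralizer_mul_ncard_conj g
      have h2 : (ConjClasses.mk g).carrier.ncard ≤ Nat.card K := by
        refine (Set.ncard_le_ncard (carrier_subset_preimage K g) (Set.toFinite _)).trans ?_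
        rw [ncard_preimage_mk, ← index_centralizer_eq_ncard_conj, hcen, index_top, mul_one]
      have h3 : Nat.card H = Nat.card (H ⧸ K) * Nat.card K := card_eq_card_quotient_mul_card_subgroup K
      have h4 : 0 < Nat.card K := Nat.card_pos
      rw [h3, ← hd] at h1
      by_contra hlt
      push Not at hlt
      nlinarith [Nat.mul_le_mul_left (Nat.card C) h2, Nat.mul_lt_mul_of_pos_right hlt h4]
  have hvanish := (H44.card_centralizer_eq_quotient_iff (N := K) g).mp hCzero
  obtain ⟨M₀, hM₀, hM₀c, k, hk⟩ := S4456.result (G := H) r hr.out (fun χ hχ => by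
    obtain ⟨m, ρ', hρ', e⟩ := χ.2
    have hdeg : Cfsg.charDegree (χ : H → ℂ) = m := by
      simp [Cfsg.charDegree, ← e]
    by_cases hK : K ≤ H44.kerOf χ
    · obtain ⟨ψ, hψ⟩ := H44.exists_eq_inflate K χ hK
      obtain ⟨m', ρ'', hρ'', e'⟩ := ψ.2
      have hdeg' : Cfsg.charDegree (χ : H → ℂ) = m' := by
        rw [← hψ]
        simp [Cfsg.charDegree, H44.inflate_apply, ← e']
      haveI := hρ''
      have hdvd : m' ∣ r ^ d := by
        rw [hd]
        have := H25.finrank_dvd_card ρ''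
        rwa [Module.finrank_fin_fun] at this
      obtain ⟨j, -, hj⟩ := (Nat.dvd_prime_pow hr.out).mp hdvd
      rcases Nat.eq_zero_or_pos j with rfl | hj0
      · exact absurd (hdeg'.trans (by simpa using hj)) hχ
      · rw [hdeg', hj]
        exact dvd_pow_self r hj0.ne'
    · rw [hdeg]
      by_contra hnd
      refine H45.char_ne_zero_of_prime_to_degree ρ' r (by rwa [Module.finrank_fin_fun]) g (k := a) ?_ ?_
      · apply Subtype.ext
        rw [SubgroupClass.coe_pow, OneMemClass.coe_one]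
        show ρ ^ r ^ a = 1
        rw [← ha, pow_orderOf_eq_one]
      · rw [e]
        exact hvanish χ hK)
  haveI := hM₀
  have hM₀' : ¬ r ∣ Nat.card M₀ := fun h => (Nat.Prime.coprime_iff_not_dvd hr.out).mp hM₀c.symm h
  have hmem : ∀ x ∈ N, ¬ r ∣ orderOf x → x ∈ M₀.map H.subtype := by
    intro x hx hxr
    have hxH : x ∈ H := mem_sup_left hx
    refine ⟨⟨x, hxH⟩, (QuotientGroup.eq_one_iff (N := M₀) _).mp (orderOf_eq_one_iff.mp ?_), rfl⟩
    refine Nat.eq_one_of_dvd_coprimes ((hr.out.coprime_iff_not_dvd.mpr hxr).pow_left k) ?_ ?_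
    · rw [← hk, index_eq_card]
      exact orderOf_dvd_natCard _
    · have := orderOf_map_dvd (QuotientGroup.mk' M₀) (⟨x, hxH⟩ : H)
      rwa [Subgroup.orderOf_mk] at this
  have hMN : M₀.map H.subtype ≤ N := by
    rintro _ ⟨u, hu, rfl⟩
    have h1 : orderOf ((u : H) : H ⧸ K) = 1 := by
      refine Nat.eq_one_of_dvd_coprimes ((hr.out.coprime_iff_not_dvd.mpr hM₀').pow_left d) ?_ ?_
      · rw [hd]; exact orderOf_dvd_natCard _
      · refine (orderOf_map_dvd (QuotientGroup.mk' K) u).trans ?_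
        exact Subgroup.orderOf_dvd_natCard M₀ hu
    rw [orderOf_eq_one_iff, QuotientGroup.eq_one_iff] at h1
    exact h1
  have hMc : ¬ r ∣ Nat.card (M₀.map H.subtype) := by
    rwa [card_map_of_injective H.subtype_injective]
  refine ⟨M₀.map H.subtype, ⟨fun u hu c => ?_⟩, hMN, hMc, hmem⟩
  refine hmem _ (Normal.conj_mem ‹N.Normal› u (hMN hu) c) fun h => hMc ?_
  have e : orderOf (c * u * c⁻¹) = orderOf u := by simpa using (MulEquiv.orderOf_eq (MulAut.conj c) u)
  rw [e] at h
  exact h.trans (Subgroup.orderOf_dvd_natCard _ hu)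

/-- If a Sylow `q`-subgroup acts on a nontrivial `q'`-section `W/X` inside `N` with kernel containing
its intersection with `N`, then `q` does not divide `|N|`. -/
theorem camina_not_dvd_of_section {q : ℕ} [hq : Fact q.Prime] (hqi : q ∣ N.index)
    (W X : Subgroup G) [W.Normal] [X.Normal] (hWN : W ≤ N) (hXN : X ≤ N) (hne : ¬ W ≤ X)
    (hco : ∀ x ∈ W, (∃ k, x ^ q ^ k ∈ X) → x ∈ X)
    (hker : ∀ y ∈ N, (∃ k, orderOf y = q ^ k) → ∀ w ∈ W, y * w * y⁻¹ * w⁻¹ ∈ X) :
    ¬ q ∣ Nat.card N := by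
  intro hqN
  obtain ⟨Q⟩ := (inferInstance : Nonempty (Sylow q G))
  set Qb : Sylow q (G ⧸ N) := Q.mapSurjective (QuotientGroup.mk'_surjective N)
  have hQb : (Qb : Subgroup (G ⧸ N)) = (Q : Subgroup G).map (QuotientGroup.mk' N) := rfl
  set Wb : Subgroup (G ⧸ X) := W.map (QuotientGroup.mk' X)
  haveI : Wb.Normal := ‹W.Normal›.map _ (QuotientGroup.mk'_surjective X)
  haveI : Nontrivial Wb := by
    rw [nontrivial_iff_ne_bot]
    intro h
    refine hne fun w hw => ?_
    rw [← QuotientGroup.eq_one_iff, ← mem_bot, ← h]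
    exact mem_map_of_mem _ hw
  let f : (Q : Subgroup G) →* MulAut Wb :=
    (MulAut.conjNormal (H := Wb)).comp ((QuotientGroup.mk' X).comp (Q : Subgroup G).subtype)
  have hf : ∀ (y : (Q : Subgroup G)) (w : G) (hw : (w : G ⧸ X) ∈ Wb),
      ((f y ⟨(w : G ⧸ X), hw⟩ : Wb) : G ⧸ X) = ((y * w * (y : G)⁻¹ : G) : G ⧸ X) := by
    intro y w hw
    simp [f, MulAut.conjNormal_apply]
  let π : (Q : Subgroup G) →* (Qb : Subgroup (G ⧸ N)) := (QuotientGroup.mk' N).subgroupMap (Q : Subgroup G)
  have hπ : Function.Surjective π := (QuotientGroup.mk' N).subgroupMap_surjective _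
  have hkerπ : π.ker ≤ f.ker := by
    intro y hy
    rw [MonoidHom.mem_ker] at hy ⊢
    have hyN : (y : G) ∈ N := (QuotientGroup.eq_one_iff _).mp (congrArg Subtype.val hy)
    refine MulEquiv.ext fun wb => ?_
    obtain ⟨w, hw, hwb⟩ := wb.2
    apply Subtype.ext
    have : wb = ⟨(w : G ⧸ X), (show (w : G ⧸ X) ∈ Wb from mem_map_of_mem (QuotientGroup.mk' X) hw)⟩ := Subtype.ext hwb.symm
    rw [this, hf, MulAut.one_apply, QuotientGroup.eq]
    obtain ⟨k, hk⟩ := IsPGroup.iff_orderOf.mp Q.isPGroup' y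
    have h1 := hker y hyN ⟨k, by rw [← hk, orderOf_coe]⟩ w hw
    have h2 := X.inv_mem h1
    have e : ((y : G) * w * (y : G)⁻¹)⁻¹ * w =
        w⁻¹ * (((y : G) * w * (y : G)⁻¹ * w⁻¹)⁻¹) * w := by group
    rw [e]
    simpa using Normal.conj_mem ‹X.Normal› _ h2 w⁻¹
  let ψ : (Qb : Subgroup (G ⧸ N)) →* MulAut Wb := π.liftOfSurjective hπ ⟨f, hkerπ⟩
  have hψ : ∀ y, ψ (π y) = f y := fun y => by
    simp [ψ]
  have hfpf : ∀ e : (Qb : Subgroup (G ⧸ N)), e ≠ 1 → ∀ k : Wb, ψ e k = k → k = 1 := by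
    intro e he k hek
    obtain ⟨y, rfl⟩ := hπ e
    rw [hψ] at hek
    obtain ⟨w, hw, hwb⟩ := k.2
    have hk : k = ⟨(w : G ⧸ X), (show (w : G ⧸ X) ∈ Wb from mem_map_of_mem (QuotientGroup.mk' X) hw)⟩ := Subtype.ext hwb.symm
    rw [hk] at hek ⊢
    have hcomm := congrArg Subtype.val hek
    rw [hf] at hcomm
    have hyN : (y : G) ∉ N := fun h => he (Subtype.ext ((QuotientGroup.eq_one_iff _).mpr h))
    obtain ⟨a, ha⟩ := IsPGroup.iff_orderOf.mp Q.isPGroup' y
    rw [← orderOf_coe] at ha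
    have h1 := camina_orderOf_mul hcam hyN (hWN hw)
    have hC : Commute ((y : G) : G ⧸ X) ((w : G) : G ⧸ X) := by
      have : ((y : G) : G ⧸ X) * w * ((y : G) : G ⧸ X)⁻¹ = w := by simpa using hcomm
      exact mul_inv_eq_iff_eq_mul.mp this
    apply Subtype.ext
    rw [OneMemClass.coe_one]
    show (w : G ⧸ X) = 1
    rw [QuotientGroup.eq_one_iff]
    refine hco w hw ⟨a, ?_⟩
    rw [← QuotientGroup.eq_one_iff, QuotientGroup.mk_pow]
    have h2 : (((y : G) : G ⧸ X) * w) ^ q ^ a = 1 := by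
      rw [← QuotientGroup.mk_mul, ← QuotientGroup.mk_pow, ← ha, ← h1, pow_orderOf_eq_one]
      rfl
    rwa [hC.mul_pow, ← QuotientGroup.mk_pow, ← ha, pow_orderOf_eq_one, QuotientGroup.mk_one, one_mul, ha] at h2
  have huniq := H21.unique_subgroup_of_fpf Qb.isPGroup' ψ hfpf
  haveI hQnt : Nontrivial (Qb : Subgroup (G ⧸ N)) := by
    rw [nontrivial_iff_ne_bot]
    exact fun h => Qb.not_dvd_index (by rw [h, index_bot, ← index_eq_card]; exact hqi)
  -- an element whose commuting subgroups are small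
  obtain ⟨y, hy1, hysmall⟩ : ∃ y : (Qb : Subgroup (G ⧸ N)), 1 < orderOf y ∧
      ∀ y' : (Qb : Subgroup (G ⧸ N)), orderOf y' = orderOf y →
        Nat.card (centralizer ({y'} : Set (Qb : Subgroup (G ⧸ N)))) ≤ orderOf y := by
    have hcyc : IsCyclic (Qb : Subgroup (G ⧸ N)) → ∃ y : (Qb : Subgroup (G ⧸ N)), 1 < orderOf y ∧
        ∀ y' : (Qb : Subgroup (G ⧸ N)), orderOf y' = orderOf y →
          Nat.card (centralizer ({y'} : Set (Qb : Subgroup (G ⧸ N)))) ≤ orderOf y := fun hc => by
      obtain ⟨y, hy⟩ := IsCyclic.exists_ofOrder_eq_natCard (α := (Qb : Subgroup (G ⧸ N)))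
      exact ⟨y, hy ▸ Finite.one_lt_card, fun y' _ => hy ▸ card_le_card_group _⟩
    rcases H21.cyclic_or_quaternion q Qb.isPGroup' huniq with hc | ⟨-, n, ⟨e⟩⟩
    · exact hcyc hc
    · rcases Nat.eq_zero_or_pos n with rfl | hn
      · exact hcyc ((MulEquiv.isCyclic e).mpr (by
          simpa using QuaternionGroup.quaternionGroup_one_isCyclic))
      · haveI : NeZero (2 ^ n) := ⟨by positivity⟩
        have hcard : Nat.card (Qb : Subgroup (G ⧸ N)) = 4 * 2 ^ n := by
          rw [Nat.card_congr e.toEquiv, Nat.card_eq_fintype_card, QuaternionGroup.card]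
        refine ⟨e.symm (QuaternionGroup.a 1), ?_, fun y' hy' => ?_⟩
        · rw [MulEquiv.orderOf_eq, QuaternionGroup.orderOf_a_one]
          have : 0 < 2 ^ n := by positivity
          omega
        rw [MulEquiv.orderOf_eq, QuaternionGroup.orderOf_a_one] at hy' ⊢
        by_contra hbig
        push Not at hbig
        set C := centralizer ({y'} : Set (Qb : Subgroup (G ⧸ N)))
        have hyC : zpowers y' ≤ C := by
          rw [zpowers_le, mem_centralizer_singleton_iff]
        have hdvd : orderOf y' ∣ Nat.card C := by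
          rw [← Nat.card_zpowers]; exact card_dvd_of_le hyC
        have hCtop : C = ⊤ := by
          refine eq_top_of_card_eq C ?_
          obtain ⟨t, ht⟩ := hdvd
          have h2 := card_subgroup_dvd_card C
          have h3 := Nat.le_of_dvd Nat.card_pos h2
          rw [hcard, ht, hy'] at h3
          rw [ht, hy'] at hbig
          have h2n : 0 < 2 ^ n := by positivity
          have ht2 : t = 2 := by nlinarith
          rw [ht, ht2, hy', hcard]; ring
        have hycen : y' ∈ center (Qb : Subgroup (G ⧸ N)) := by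
          rw [mem_center_iff]
          exact fun u => mem_centralizer_singleton_iff.mp (hCtop.ge (mem_top u))
        haveI : IsCyclic ((Qb : Subgroup (G ⧸ N)) ⧸ center (Qb : Subgroup (G ⧸ N))) := by
          have h4 : (center (Qb : Subgroup (G ⧸ N))).index ∣ 2 := by
            refine (index_dvd_of_le (zpowers_le.mpr hycen)).trans (dvd_of_eq ?_)
            have h5 := card_mul_index (zpowers y')
            rw [Nat.card_zpowers, hy', hcard] at h5
            have h6 : 0 < 2 * 2 ^ n := by positivity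
            nlinarith
          rw [index_eq_card] at h4
          rcases (Nat.dvd_prime Nat.prime_two).mp h4 with h | h
          · haveI : Subsingleton ((Qb : Subgroup (G ⧸ N)) ⧸ center (Qb : Subgroup (G ⧸ N))) :=
              (Nat.card_eq_one_iff_unique.mp h).1
            infer_instance
          · exact isCyclic_of_prime_card h
        haveI := isMulCommutative_of_isCyclic_quotient_center_self (G := (Qb : Subgroup (G ⧸ N)))
        have h7 := congrArg e (mul_comm' (e.symm (QuaternionGroup.a 1)) (e.symm (QuaternionGroup.xa 0)))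
        simp only [map_mul, MulEquiv.apply_symm_apply, QuaternionGroup.a_mul_xa,
          QuaternionGroup.xa_mul_a, QuaternionGroup.xa.injEq] at h7
        have h8 : ((2 : ℕ) : ZMod (2 * 2 ^ n)) = 0 := by
          push_cast
          linear_combination -h7
        rw [ZMod.natCast_eq_zero_iff] at h8
        have h9 := Nat.le_of_dvd two_pos h8
        have h10 : 2 ≤ 2 ^ n := Nat.le_self_pow hn.ne' 2
        omega
  obtain ⟨g, hgy⟩ := hπ y
  have hgy' : ((g : G) : G ⧸ N) = (y : G ⧸ N) := congrArg Subtype.val hgy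
  have hgN : (g : G) ∉ N := fun h => by
    have : y = 1 := Subtype.ext (hgy' ▸ (QuotientGroup.eq_one_iff _).mpr h)
    rw [this, orderOf_one] at hy1
    exact lt_irrefl 1 hy1
  -- a nontrivial central element of `Q` in `N`
  obtain ⟨z, hz, hz1⟩ := (bot_or_exists_ne_one _).resolve_left
    (H24.inf_center_ne_bot Q.isPGroup' (N := N.subgroupOf (Q : Subgroup G)) (fun h => by
      rw [subgroupOf_eq_bot, disjoint_iff] at h
      obtain ⟨S⟩ := (inferInstance : Nonempty (Sylow q N))
      obtain ⟨Q', hQ'⟩ := (S.isPGroup'.map N.subtype).exists_le_sylow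
      obtain ⟨c, hc⟩ := MulAction.exists_smul_eq G Q' Q
      obtain ⟨w, hw⟩ := exists_prime_orderOf_dvd_card' (G := S) q (by
        obtain ⟨k, hk⟩ := IsPGroup.iff_card.mp S.isPGroup'
        rcases Nat.eq_zero_or_pos k with rfl | hk0
        · exfalso
          have h1 := S.card_eq_multiplicity
          rw [hk] at h1
          have h2 := Nat.Prime.factorization_pos_of_dvd hq.out Nat.card_pos.ne' hqN
          have h3 : q ^ (Nat.card N).factorization q ≠ 1 := (one_lt_pow₀ hq.out.one_lt h2.ne').ne'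
          exact h3 (by simpa using h1.symm)
        · rw [hk]; exact dvd_pow_self q hk0.ne')
      have hw1 : ((w : N) : G) ∈ (Q' : Subgroup G) := hQ' ⟨(w : N), w.2, rfl⟩
      have hw2 : c * ((w : N) : G) * c⁻¹ ∈ (Q : Subgroup G) := by
        rw [← hc, Sylow.coe_subgroup_smul]
        exact ⟨_, hw1, rfl⟩
      have hw3 : c * ((w : N) : G) * c⁻¹ ∈ N ⊓ (Q : Subgroup G) :=
        ⟨Normal.conj_mem ‹N.Normal› _ (w : N).2 c, hw2⟩
      rw [h, mem_bot, conj_eq_one_iff, OneMemClass.coe_eq_one, OneMemClass.coe_eq_one] at hw3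
      rw [hw3, orderOf_one] at hw
      exact hq.out.ne_one hw.symm))
  set A : Subgroup G := (zpowers g ⊔ zpowers z).map (Q : Subgroup G).subtype
  have hAC : A ≤ centralizer ({(g : G)} : Set G) := by
    rintro _ ⟨u, hu, rfl⟩
    have h1 : zpowers g ⊔ zpowers z ≤ centralizer ({g} : Set (Q : Subgroup G)) := by
      refine sup_le (zpowers_le.mpr ?_) (zpowers_le.mpr ?_)
      · exact mem_centralizer_singleton_iff.mpr rfl
      · exact mem_centralizer_singleton_iff.mpr (mem_center_iff.mp hz.2 g).symm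
    have := mem_centralizer_singleton_iff.mp (h1 hu)
    rw [mem_centralizer_singleton_iff]
    exact congrArg Subtype.val this
  have hAp : IsPGroup q A := (Q.isPGroup'.to_subgroup _).map _
  -- the image has order at least `orderOf y`, the kernel is nontrivial
  have hbig : orderOf y < Nat.card A := by
    have hAc : Nat.card A = Nat.card (zpowers g ⊔ zpowers z : Subgroup (Q : Subgroup G)) :=
      card_map_of_injective (Q : Subgroup G).subtype_injective
    rw [hAc]
    set B := zpowers g ⊔ zpowers z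
    have h1 := card_mul_index (π.ker.subgroupOf B)
    have h2 : 1 < Nat.card (π.ker.subgroupOf B) := by
      rw [Finite.one_lt_card_iff_nontrivial, nontrivial_iff_exists_ne_one]
      exact ⟨⟨z, mem_sup_right (mem_zpowers z)⟩, MonoidHom.mem_ker.mpr (Subtype.ext
        ((QuotientGroup.eq_one_iff _).mpr hz.1)), fun h => hz1 (congrArg Subtype.val h)⟩
    have h3 : orderOf y ≤ (π.ker.subgroupOf B).index := by
      show _ ≤ π.ker.relIndex B
      rw [relIndex_ker, ← hgy, ← Nat.card_zpowers]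
      exact card_le_of_le (zpowers_le.mpr ⟨g, mem_sup_left (mem_zpowers g), rfl⟩)
    nlinarith [orderOf_pos y]
  -- so the `q`-part of the centralizer in `G/N` is too big
  obtain ⟨c, hc⟩ := IsPGroup.iff_card.mp hAp
  have hdvd : q ^ c ∣ Nat.card (centralizer ({(y : G ⧸ N)} : Set (G ⧸ N))) := by
    rw [← hgy', ← (S4142.result N).mp hcam (g : G) hgN, ← hc]
    exact card_dvd_of_le hAC
  obtain ⟨T, hT⟩ := Sylow.exists_subgroup_card_pow_prime q hdvd
  set T' : Subgroup (G ⧸ N) := T.map (centralizer ({(y : G ⧸ N)} : Set (G ⧸ N))).subtype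
  have hT' : ∀ t ∈ T', Commute t (y : G ⧸ N) := by
    rintro _ ⟨t, -, rfl⟩
    exact mem_centralizer_singleton_iff.mp t.2
  have hTp : IsPGroup q (T' ⊔ zpowers (y : G ⧸ N) : Subgroup (G ⧸ N)) := by
    refine IsPGroup.to_sup_of_normal_right' ((IsPGroup.of_card hT).map _) ?_ ?_
    · exact Qb.isPGroup'.to_le (zpowers_le.mpr y.2)
    · intro t ht
      refine mem_normalizer_iff_map_conj_eq.mpr ?_
      rw [MonoidHom.map_zpowers]
      simp [(hT' t ht).eq]
  obtain ⟨R, hR⟩ := hTp.exists_le_sylow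
  obtain ⟨u, hu⟩ := MulAction.exists_smul_eq (G ⧸ N) R Qb
  have hmem : ∀ t ∈ (T' ⊔ zpowers (y : G ⧸ N) : Subgroup (G ⧸ N)), u * t * u⁻¹ ∈ (Qb : Subgroup (G ⧸ N)) := by
    intro t ht
    rw [← hu, Sylow.coe_subgroup_smul]
    exact ⟨t, hR ht, rfl⟩
  let y' : (Qb : Subgroup (G ⧸ N)) := ⟨_, hmem _ (mem_sup_right (mem_zpowers _))⟩
  have hy' : orderOf y' = orderOf y := by
    rw [← orderOf_coe y', ← orderOf_coe y]
    simpa [y'] using MulEquiv.orderOf_eq (MulAut.conj u) (y : G ⧸ N)
  have hle := hysmall y' hy'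
  have hinj : Nat.card T' ≤ Nat.card (centralizer ({y'} : Set (Qb : Subgroup (G ⧸ N)))) := by
    refine Nat.card_le_card_of_injective (fun t => ⟨⟨u * t * u⁻¹, hmem _ (mem_sup_left t.2)⟩, ?_⟩) ?_
    · rw [mem_centralizer_singleton_iff]
      apply Subtype.ext
      simp only [coe_mul, y']
      calc u * (t : G ⧸ N) * u⁻¹ * (u * (y : G ⧸ N) * u⁻¹) = u * ((t : G ⧸ N) * y) * u⁻¹ := by group
        _ = u * ((y : G ⧸ N) * t) * u⁻¹ := by rw [(hT' t t.2).eq]
        _ = u * (y : G ⧸ N) * u⁻¹ * (u * t * u⁻¹) := by group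
    · intro s t h
      have := congrArg Subtype.val (congrArg Subtype.val h)
      simpa using this
  rw [card_map_of_injective (centralizer ({(y : G ⧸ N)} : Set (G ⧸ N))).subtype_injective, hT, ← hc] at hinj
  omega

/-- The trichotomy for Camina pairs. -/
theorem camina_trichotomy (hN1 : N ≠ ⊥) (hN2 : N ≠ ⊤) :
    (∀ x ∈ N, x ≠ 1 → centralizer ({x} : Set G) ≤ N) ∨ IsPrimePow (Nat.card N) ∨
      IsPrimePow N.index := by
  by_contra hno
  push Not at hno
  obtain ⟨⟨x, hx, hx1, hxC⟩, hpN, hpI⟩ := hno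
  obtain ⟨y, hyC, hyN⟩ := SetLike.not_le_iff_exists.mp hxC
  obtain ⟨q, m, a, hq, hgN, hga, hqi⟩ := exists_primary_pow_notMem hyN
  haveI : Fact q.Prime := ⟨hq⟩
  obtain ⟨k, hk⟩ := camina_centralized_isPPower hcam hq hgN hga hx
    (Commute.pow_left (mem_centralizer_singleton_iff.mp hyC) m)
  have hk0 : k ≠ 0 := fun h => hx1 (by rw [← orderOf_eq_one_iff, hk, h, pow_zero])
  have hqN : q ∣ Nat.card N := (dvd_pow_self q hk0).trans (hk ▸ N.orderOf_dvd_natCard hx)
  -- a second prime dividing the index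
  obtain ⟨r, hr, hri, hrq⟩ : ∃ r : ℕ, r.Prime ∧ r ∣ N.index ∧ r ≠ q := by
    by_contra hall
    push Not at hall
    have h0 : N.index ≠ 0 := index_ne_zero_of_finite
    have h1 := Nat.eq_prime_pow_of_unique_prime_dvd h0 fun {d} hd hdi => hall d hd hdi
    refine hpI ((isPrimePow_nat_iff _).mpr ⟨q, N.index.primeFactorsList.length, hq, ?_, h1.symm⟩)
    refine Nat.pos_of_ne_zero fun h => hN2 ?_
    rw [← index_eq_one, h1, h, pow_zero]
  haveI : Fact r.Prime := ⟨hr⟩
  by_cases hrN : r ∣ Nat.card N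
  · obtain ⟨M, hM, hMN, hrM, hmem⟩ := camina_exists_complement hcam hri
    haveI := hM
    refine camina_not_dvd_of_section hcam hqi N M le_rfl hMN
      (fun h => hrM (hrN.trans (card_dvd_of_le h))) ?_ ?_ hqN
    · rintro w hw ⟨j, hj⟩
      have hw' : w ^ r ^ (orderOf w).factorization r ∈ M := by
        refine hmem _ (pow_mem hw _) fun h => ?_
        rw [orderOf_pow_of_dvd (pow_ne_zero _ hr.ne_zero) (Nat.ordProj_dvd _ r)] at h
        exact Nat.not_dvd_ordCompl hr (orderOf_pos w).ne' h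
      rw [← QuotientGroup.eq_one_iff, ← orderOf_eq_one_iff]
      refine Nat.eq_one_of_dvd_coprimes
        (((Nat.coprime_primes hr hq).mpr hrq).pow ((orderOf w).factorization r) j)
        (orderOf_dvd_of_pow_eq_one ?_) (orderOf_dvd_of_pow_eq_one ?_)
      · rw [← QuotientGroup.mk_pow]; exact (QuotientGroup.eq_one_iff _).mpr hw'
      · rw [← QuotientGroup.mk_pow]; exact (QuotientGroup.eq_one_iff _).mpr hj
    · rintro u hu ⟨j, hj⟩ w hw
      have huM : u ∈ M := hmem u hu fun h => hrq ((Nat.prime_dvd_prime_iff_eq hr hq).mp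
        (hr.dvd_of_dvd_pow (hj ▸ h)))
      have h1 := M.mul_mem huM (Normal.conj_mem hM u⁻¹ (M.inv_mem huM) w)
      simpa [mul_assoc] using h1
  · obtain ⟨t, ht⟩ := exists_prime_orderOf_dvd_card' (G := G) r (hri.trans N.index_dvd_card)
    have htN : t ∉ N := fun h => hrN (ht ▸ N.orderOf_dvd_natCard h)
    have hfix : ∀ u ∈ N, t * u * t⁻¹ = u → u = 1 := by
      intro u hu hfix
      obtain ⟨j, hj⟩ := camina_centralized_isPPower hcam hr htN (a := 1) (by rw [ht, pow_one]) hu
        (mul_inv_eq_iff_eq_mul.mp hfix)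
      rw [← orderOf_eq_one_iff, hj]
      rcases Nat.eq_zero_or_pos j with rfl | hj0
      · rfl
      · exact absurd ((dvd_pow_self r hj0.ne').trans (hj ▸ N.orderOf_dvd_natCard hu)) hrN
    let φ : MulAut N := MulAut.conjNormal t
    have hord : orderOf φ = r := by
      have h1 : φ ^ r = 1 := by rw [← map_pow, ← ht, pow_orderOf_eq_one, map_one]
      refine ((Nat.dvd_prime hr).mp (orderOf_dvd_of_pow_eq_one h1)).resolve_left fun h => ?_
      rw [orderOf_eq_one_iff] at h
      obtain ⟨u, hu, hu1⟩ := (bot_or_exists_ne_one N).resolve_left hN1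
      refine hu1 (hfix u hu ?_)
      have h2 := congrArg Subtype.val (DFunLike.congr_fun h (⟨u, hu⟩ : N))
      simpa [φ, MulAut.conjNormal_apply] using h2
    have hnil : Group.IsNilpotent N := S0033.result φ (fun u hu => by
      refine Subtype.ext (hfix u u.2 ?_)
      have h2 := congrArg Subtype.val hu
      simpa [φ, MulAut.conjNormal_apply] using h2) r hr hord
    obtain ⟨M, hM, hMN, hqM, hmem⟩ := camina_exists_complement hcam hqi
    haveI := hM
    -- another prime divisor of `|N|`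
    obtain ⟨s, hs, hsN, hsq⟩ : ∃ s : ℕ, s.Prime ∧ s ∣ Nat.card N ∧ s ≠ q := by
      by_contra hall
      push Not at hall
      have h1 := Nat.eq_prime_pow_of_unique_prime_dvd (n := Nat.card N) Nat.card_pos.ne'
        fun {d} hd hdi => hall d hd hdi
      refine hpN ((isPrimePow_nat_iff _).mpr ⟨q, _, hq, ?_, h1.symm⟩)
      refine Nat.pos_of_ne_zero fun h => hN1 ?_
      rw [h, pow_zero] at h1
      exact eq_bot_of_card_eq N h1
    haveI : Fact s.Prime := ⟨hs⟩
    obtain ⟨v, hv⟩ := exists_prime_orderOf_dvd_card' (G := N) s hsN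
    rw [← orderOf_coe] at hv
    refine camina_not_dvd_of_section hcam hqi M ⊥ hMN bot_le (fun h => ?_) ?_ ?_ hqN
    · have h1 : (v : G) ∈ M := hmem _ v.2 fun h => hsq ((Nat.prime_dvd_prime_iff_eq hq hs).mp (hv ▸ h)).symm
      rw [mem_bot.mp (h h1), orderOf_one] at hv
      exact hs.ne_one hv.symm
    · rintro w hw ⟨j, hj⟩
      rw [mem_bot] at hj ⊢
      rw [← orderOf_eq_one_iff]
      exact Nat.eq_one_of_dvd_coprimes ((hq.coprime_iff_not_dvd.mpr hqM).pow_left j)
        (orderOf_dvd_of_pow_eq_one hj) (M.orderOf_dvd_natCard hw)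
    · rintro u hu ⟨j, hj⟩ w hw
      rw [mem_bot, mul_inv_eq_one, mul_inv_eq_iff_eq_mul]
      refine H89.commute_of_nilpotent_coprime hnil hu (hMN hw) ?_
      rw [hj]
      exact (((hq.coprime_iff_not_dvd.mpr hqM).coprime_dvd_right (M.orderOf_dvd_natCard hw))).pow_left j

end Cfsg.Agent.H88
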