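import Mathlib
import Cfsg.Prelude.Def_Transfer
import Cfsg.Agent.S4035
import Cfsg.Agent.H22.PResidual
import Cfsg.Agent.H74.PGroupAction
import Cfsg.Agent.H88.CentralParts

/-! A `p`-element with maximal `p`-power class size forces a normal `p`-complement. -/

namespace Cfsg.Agent.H88

open Subgroup

/-- The centralizer inside a subgroup is the restriction of the centralizer. -/
theorem centralizer_subtype_singleton {G : Type*} [Group G] (C : Subgroup G) (c : C) :
    centralizer ({c} : Set C) = (centralizer ({(c : G)} : Set G)).subgroupOf C := by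
  ext g
  rw [mem_subgroupOf, mem_centralizer_singleton, mem_centralizer_singleton]
  exact Subtype.ext_iff

/-- A `p`-element whose class size is the largest `p`-part of any class size gives a normal
`p`-complement. -/
theorem hasNormalPComplement_of_max_pPart {G : Type*} [Group G] [Finite G] (p : ℕ)
    [hp : Fact p.Prime] (a : ℕ) (hmax : ∀ y : G, ¬ p ^ (a + 1) ∣ (centralizer ({y} : Set G)).index)
    (x : G) (hxp : ∃ k, orderOf x = p ^ k) (hxa : (centralizer ({x} : Set G)).index = p ^ a) :
    HasNormalPComplement p G := by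
  obtain ⟨k, hk⟩ := hxp
  set C := centralizer ({x} : Set G) with hC
  have hreg : ∀ c : C, (orderOf c).Coprime p → ¬ p ∣ (ConjClasses.mk c).carrier.ncard := by
    intro c hc hd
    rw [← index_centralizer_eq_ncard_conj, centralizer_subtype_singleton, ← relIndex] at hd
    have hcx : Commute x (c : G) := (mem_centralizer_singleton.1 c.2).symm
    have h1 := centralizer_mul_of_coprime hcx (by
      rw [hk, orderOf_coe]; exact (hc.symm).pow_left k)
    apply hmax (x * (c : G))
    rw [h1, pow_succ', ← relIndex_mul_index (inf_le_left : C ⊓ centralizer ({(c : G)} : Set G) ≤ C),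
      inf_relIndex_left, ← hxa]
    exact mul_dvd_mul_right hd _
  obtain ⟨hTn, K, hKn, hKp, hdis, hsup⟩ := S4035.result hreg (default : Sylow p C)
  set T : Sylow p C := default with hT
  haveI := hTn
  haveI := hKn
  set R : Subgroup G := K.map C.subtype with hR
  have hxC : x ∈ C := mem_centralizer_singleton.2 rfl
  have hTall : ∀ (c : C), (∃ j, orderOf c = p ^ j) → c ∈ (T : Subgroup C) := by
    rintro c ⟨j, hj⟩
    have hz : IsPGroup p (zpowers c) := IsPGroup.of_card (n := j) (by rw [Nat.card_zpowers, hj])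
    exact (le_sup_right.trans (le_of_eq (T.is_maximal'
      (T.isPGroup'.to_sup_of_normal_left hz) le_sup_left))) (mem_zpowers c)
  have hKall : ∀ (c : C), (orderOf c).Coprime p → c ∈ K := by
    intro c hc
    rw [← QuotientGroup.eq_one_iff, ← orderOf_eq_one_iff]
    obtain ⟨n, hn⟩ := T.isPGroup'.exists_card_eq
    refine Nat.eq_one_of_dvd_coprimes (hc.pow_right n) (orderOf_map_dvd (QuotientGroup.mk' K) c) ?_
    refine (_root_.orderOf_dvd_natCard _).trans ?_
    rw [← index_eq_card, ← hn, ← relIndex_top_right, ← hsup, relIndex_sup_right]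
    exact relIndex_dvd_card _ _
  have hcommTK : ∀ t ∈ (T : Subgroup C), ∀ c ∈ K, Commute t c := fun t ht c hc =>
    commute_of_normal_of_disjoint _ _ hTn hKn (disjoint_iff.2 hdis) t c ht hc
  -- the normal closure of `x` is a `p`-group
  set X := normalClosure ({x} : Set G) with hX
  obtain ⟨P⟩ := (inferInstance : Nonempty (Sylow p G))
  have hXP : X ≤ (P : Subgroup G) := by
    rw [hX, normalClosure, closure_le]
    intro y hy
    obtain ⟨z, hz, hzy⟩ := Group.mem_conjugatesOfSet_iff.1 hy
    rw [Set.mem_singleton_iff] at hz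
    subst hz
    obtain ⟨g, rfl⟩ := isConj_iff.1 hzy
    refine mem_sylow_of_pPower_index (g * z * g⁻¹) ⟨k, ?_⟩ a ?_ P
    · rw [← hk]
      exact orderOf_injective (MulAut.conj g).toMonoidHom (MulAut.conj g).injective z
    · rw [index_centralizer_eq_ncard_conj, ConjClasses.mk_eq_mk_iff_isConj.2 hzy.symm,
        ← index_centralizer_eq_ncard_conj]
      exact hxa
  have hxX : x ∈ X := subset_normalClosure rfl
  haveI hXn : X.Normal := normalClosure_normal
  have hcent : ∀ c ∈ R, ∀ y ∈ X, Commute c y := by
    rintro _ ⟨c, hc, rfl⟩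
    refine H74.thompson_AxB (p := p) (R := X) (B := zpowers x) (P.isPGroup'.to_le hXP)
      (IsPGroup.of_card (n := k) (by rw [Nat.card_zpowers, hk])) ?_ ?_ ?_ ?_ ?_
    · rw [normalizer_eq_top]; exact le_top
    · rw [normalizer_eq_top]; exact mem_top _
    · intro hd
      rw [C.coe_subtype, orderOf_coe] at hd
      exact hKp (hd.trans (orderOf_dvd_natCard K hc))
    · intro b hb
      obtain ⟨i, rfl⟩ := mem_zpowers_iff.1 hb
      exact Commute.zpow_right (mem_centralizer_singleton.1 c.2) i
    · intro r hr hbr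
      have hrC : r ∈ C := mem_centralizer_singleton.2 (hbr x (mem_zpowers x)).symm.eq
      obtain ⟨n, hn⟩ := (P.isPGroup'.to_le hXP).exists_card_eq
      obtain ⟨j, -, hj⟩ := (Nat.dvd_prime_pow hp.out).1 (hn ▸ orderOf_dvd_natCard X hr)
      have := hcommTK ⟨r, hrC⟩ (hTall _ ⟨j, by rw [← orderOf_coe]; exact hj⟩) c hc
      exact (congrArg Subtype.val this.eq).symm
  haveI : R.Normal := ⟨fun c hc g => by
    have hgC : g * c * g⁻¹ ∈ C := by
      refine mem_centralizer_singleton.2 ?_
      have h := (hcent c hc (g⁻¹ * x * g) (by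
        simpa [mul_assoc] using hXn.conj_mem x hxX g⁻¹)).eq
      calc g * c * g⁻¹ * x = g * (c * (g⁻¹ * x * g)) * g⁻¹ := by group
        _ = g * (g⁻¹ * x * g * c) * g⁻¹ := by rw [h]
        _ = _ := by group
    refine mem_map.2 ⟨⟨_, hgC⟩, hKall _ ?_, rfl⟩
    obtain ⟨c', hc', rfl⟩ := hc
    refine Nat.Coprime.coprime_dvd_left ?_ (((hp.out.coprime_iff_not_dvd).2 hKp).symm)
    rw [← orderOf_coe]
    show orderOf (MulAut.conj g (C.subtype c')) ∣ _
    refine (dvd_of_eq ((orderOf_injective (MulAut.conj g).toMonoidHom (MulAut.conj g).injective _).trans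
      (orderOf_coe _))).trans ?_
    exact orderOf_dvd_natCard K hc'⟩
  refine H22.hasNormalPComplement_of_normal R ?_ ?_
  · rwa [hR, card_map_of_injective C.subtype_injective]
  · obtain ⟨n, hn⟩ := T.isPGroup'.exists_card_eq
    have hK : K.index ∣ p ^ n := by
      rw [← hn, ← relIndex_top_right, ← hsup, relIndex_sup_right]
      exact relIndex_dvd_card _ _
    obtain ⟨j, -, hj⟩ := (Nat.dvd_prime_pow hp.out).1 hK
    refine IsPGroup.of_card (n := j + a) ?_
    rw [← index_eq_card, hR, index_map_subtype, hj, hxa, pow_add]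

end Cfsg.Agent.H88
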