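import Mathlib
import Cfsg.Agent.S3861
import Cfsg.Agent.S3863
import Cfsg.Agent.H24.PGroupBasic
import Cfsg.Agent.H89.ClassSizeCover

/-!
# Solvability criteria relative to the odd order theorem

The lemmas here take the solvability of groups of odd order as an argument.
-/

namespace Cfsg.Agent.H88

open Subgroup

universe u

/-- If a `2`-element inverts a nontrivial element of odd order and the two generate, then the
group has two noncentral classes of coprime sizes. -/
theorem coprime_classes_of_inverting {H : Type u} [Group H] [Finite H] {x t : H} {j : ℕ}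
    (ht : orderOf t = 2 ^ j) (hodd : Odd (orderOf x)) (hx : x ≠ 1) (htx : t * x * t⁻¹ = x⁻¹)
    (hgen : closure ({x, t} : Set H) = ⊤) :
    1 < (centralizer ({x} : Set H)).index ∧ 1 < (centralizer ({t} : Set H)).index ∧
      ((centralizer ({x} : Set H)).index).Coprime (centralizer ({t} : Set H)).index := by
  have hxx : x ≠ x⁻¹ := by
    intro h
    apply hx
    rw [← orderOf_eq_one_iff]
    refine Nat.eq_one_of_dvd_coprimes (Nat.coprime_two_left.2 hodd) ?_ dvd_rfl
    refine orderOf_dvd_of_pow_eq_one ?_
    rw [sq]
    nth_rw 2 [h]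
    rw [mul_inv_cancel]
  let X := zpowers x
  have hXn : X.Normal := by
    rw [← normalizer_eq_top_iff, eq_top_iff, ← hgen, closure_le]
    have hnorm : ∀ g : H, (g * x * g⁻¹ = x ∨ g * x * g⁻¹ = x⁻¹) → g ∈ normalizer (X : Set H) := by
      intro g hg
      refine mem_normalizer_iff_map_conj_eq.mpr ?_
      rw [MonoidHom.map_zpowers]
      rcases hg with hg | hg
      · simp [hg, X]
      · simp [hg, X]
    rintro g (rfl | rfl)
    · exact hnorm _ (Or.inl (by group))
    · exact hnorm _ (Or.inr htx)
  -- every element maps `x` to `x` or to `x⁻¹`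
  have hall : ∀ g : H, g * x * g⁻¹ = x ∨ g * x * g⁻¹ = x⁻¹ := by
    intro g
    have hg : g ∈ closure ({x, t} : Set H) := hgen ▸ mem_top g
    induction hg using closure_induction with
    | mem y hy =>
      rcases hy with rfl | rfl
      · left; group
      · right; exact htx
    | one => left; group
    | mul a b _ _ ha hb =>
      have e : a * b * x * (a * b)⁻¹ = a * (b * x * b⁻¹) * a⁻¹ := by group
      rcases hb with hb | hb <;> rw [e, hb]
      · exact ha
      · rw [show a * x⁻¹ * a⁻¹ = (a * x * a⁻¹)⁻¹ by group]
        rcases ha with ha | ha <;> rw [ha]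
        · right; rfl
        · left; exact inv_inv x
    | inv a _ ha =>
      rcases ha with ha | ha
      · left
        nth_rw 1 [← ha]; group
      · right
        have e1 : a * x⁻¹ * a⁻¹ = x := by
          rw [show a * x⁻¹ * a⁻¹ = (a * x * a⁻¹)⁻¹ by group, ha, inv_inv]
        rw [inv_inv]
        nth_rw 1 [← e1]
        group
  have htx' : t ∉ centralizer ({x} : Set H) := by
    intro h
    rw [mem_centralizer_singleton_iff] at h
    apply hxx
    rw [← htx, h, mul_inv_cancel_right]
  have h2 : (centralizer ({x} : Set H)).index = 2 := by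
    rw [index_eq_two_iff]
    refine ⟨t, fun b => ?_⟩
    have hb : ∀ g : H, g ∈ centralizer ({x} : Set H) ↔ g * x * g⁻¹ = x := fun g => by
      rw [mem_centralizer_singleton_iff, mul_inv_eq_iff_eq_mul]
    rw [hb, hb]
    have e : b * t * x * (b * t)⁻¹ = (b * x * b⁻¹)⁻¹ := by
      rw [show b * t * x * (b * t)⁻¹ = b * (t * x * t⁻¹) * b⁻¹ by group, htx]
      group
    rw [e]
    rcases hall b with h | h <;> rw [h]
    · exact Or.inr ⟨rfl, fun h' => hxx h'.symm⟩
    · exact Or.inl ⟨inv_inv x, fun h' => hxx h'.symm⟩
  have hdvd : (centralizer ({t} : Set H)).index ∣ orderOf x := by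
    have hTC : zpowers t ≤ centralizer ({t} : Set H) := by
      rw [zpowers_le, mem_centralizer_singleton_iff]
    refine dvd_trans (index_dvd_of_le hTC) ?_
    have hsup : X ⊔ zpowers t = ⊤ := by
      rw [eq_top_iff, ← hgen, closure_le]
      rintro g (rfl | rfl)
      · exact mem_sup_left (mem_zpowers _)
      · exact mem_sup_right (mem_zpowers _)
    haveI := hXn
    have hX : X.index ∣ Nat.card (zpowers t) := by
      rw [← relIndex_top_right, ← hsup, relIndex_sup_left]
      exact relIndex_dvd_card _ _
    refine Nat.dvd_of_mul_dvd_mul_left (Nat.card_pos (α := zpowers t)) ?_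
    rw [card_mul_index, ← card_mul_index X, Nat.card_zpowers x, mul_comm]
    exact Nat.mul_dvd_mul_right hX _
  have hodd' : Odd (centralizer ({t} : Set H)).index := hodd.of_dvd_nat hdvd
  refine ⟨by omega, ?_, ?_⟩
  · refine one_lt_index_of_ne_top fun h => htx' ?_
    rw [mem_centralizer_singleton_iff]
    exact (mem_centralizer_singleton_iff.mp (h.ge (mem_top x))).symm
  · rw [h2]
    exact Nat.coprime_two_left.2 hodd'

/-- If no subgroup has two noncentral classes of coprime sizes, the group is solvable, given the
odd order theorem. -/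
theorem isSolvable_of_no_coprime_classes
    (hoddsolv : ∀ (H : Type u) [Group H] [Finite H], Odd (Nat.card H) → Group.IsSolvable H)
    {G : Type u} [Group G] [Finite G]
    (h : ∀ (H : Subgroup G) (x y : H), 1 < (centralizer ({x} : Set H)).index →
      1 < (centralizer ({y} : Set H)).index →
      ¬ ((centralizer ({x} : Set H)).index).Coprime (centralizer ({y} : Set H)).index) :
    Group.IsSolvable G := by
  obtain ⟨P⟩ := (inferInstance : Nonempty (Sylow 2 G))
  have hP : (P : Subgroup G).Normal := by
    refine (S3861.result P).mp fun x hx hodd hconj => ?_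
    obtain ⟨⟨t, ⟨j, hj⟩, htx⟩, -, -⟩ := S3863.result x hconj
    set H := closure ({x, t} : Set G) with hH
    have hxH : x ∈ H := subset_closure (by simp)
    have htH : t ∈ H := subset_closure (by simp)
    have hgen : closure ({(⟨x, hxH⟩ : H), ⟨t, htH⟩} : Set H) = ⊤ := by
      apply map_injective H.subtype_injective
      rw [MonoidHom.map_closure, Set.image_pair, ← MonoidHom.range_eq_map, range_subtype]
      rfl
    obtain ⟨h1, h2, h3⟩ := coprime_classes_of_inverting (x := (⟨x, hxH⟩ : H)) (t := ⟨t, htH⟩) (j := j)
      (by rw [Subgroup.orderOf_mk]; exact hj) (by rw [Subgroup.orderOf_mk]; exact hodd)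
      (fun e => hx (congrArg Subtype.val e)) (Subtype.ext htx) hgen
    exact h H _ _ h1 h2 h3
  haveI := hP
  haveI : Group.IsSolvable (P : Subgroup G) := by
    haveI := P.isPGroup'.isNilpotent
    infer_instance
  haveI : Group.IsSolvable (G ⧸ (P : Subgroup G)) := hoddsolv _ (by
    have hnd := P.not_dvd_index
    rw [index_eq_card] at hnd
    exact Nat.odd_iff.mpr (Nat.two_dvd_ne_zero.mp hnd))
  exact Group.isSolvable_of_ker_le_range (P : Subgroup G).subtype (QuotientGroup.mk' (P : Subgroup G))
    (by simp)

open scoped Pointwise in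
/-- In a simple nonabelian group of even order some class size is divisible by `4`. -/
theorem exists_four_dvd_index_of_simple {G : Type u} [Group G] [Finite G] [IsSimpleGroup G]
    (hna : ¬ IsMulCommutative G) (heven : ¬ Odd (Nat.card G)) :
    ∃ x : G, 4 ∣ (centralizer ({x} : Set G)).index := by
  classical
  by_contra hno
  push Not at hno
  have hZ : center G = ⊥ := by
    refine (Normal.eq_bot_or_eq_top (H := center G) inferInstance).resolve_right fun h => hna ?_
    exact ⟨⟨fun a b => mem_center_iff.mp (h.ge (mem_top b)) a⟩⟩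
  haveI : Fact (Nat.Prime 2) := ⟨Nat.prime_two⟩
  obtain ⟨S⟩ := (inferInstance : Nonempty (Sylow 2 G))
  have hSne : (S : Subgroup G) ≠ ⊥ := by
    intro h
    apply heven
    have h2 := S.not_dvd_index
    rw [h, index_bot] at h2
    exact Nat.odd_iff.mpr (Nat.two_dvd_ne_zero.mp h2)
  -- every element centralizes a subgroup of index at most `2` of a conjugate of `S`
  have hcov : ∀ x : G, ∃ c : G, ∀ s : (S : Subgroup G),
      (s : G) * (s : G) ∈ centralizer ({c * x * c⁻¹} : Set G) ∧
      ∃ D : Subgroup (S : Subgroup G), D.index ≤ 2 ∧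
        ∀ d ∈ D, (d : G) ∈ centralizer ({c * x * c⁻¹} : Set G) := by
    intro x
    set M := centralizer ({x} : Set G) with hM
    obtain ⟨T⟩ := (inferInstance : Nonempty (Sylow 2 M))
    have hT2 : IsPGroup 2 ((T : Subgroup M).map M.subtype) := T.isPGroup'.map _
    obtain ⟨S', hS'⟩ := hT2.exists_le_sylow
    obtain ⟨c, hc⟩ := MulAction.exists_smul_eq G S' S
    refine ⟨c, ?_⟩
    set D := (MulAut.conj c • ((T : Subgroup M).map M.subtype)).subgroupOf (S : Subgroup G)
    have hle : MulAut.conj c • ((T : Subgroup M).map M.subtype) ≤ (S : Subgroup G) := by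
      rw [← hc, Sylow.coe_subgroup_smul]
      exact pointwise_smul_le_pointwise_smul_iff.mpr hS'
    have hcardD : Nat.card D = 2 ^ (Nat.card M).factorization 2 := by
      rw [Nat.card_congr (subgroupOfEquivOfLe hle).toEquiv,
        ← Nat.card_congr (equivSMul (MulAut.conj c) ((T : Subgroup M).map M.subtype)).toEquiv,
        card_map_of_injective M.subtype_injective, T.card_eq_multiplicity]
    have hD : D.index ≤ 2 := by
      have h1 := card_mul_index D
      rw [hcardD, S.card_eq_multiplicity, ← card_mul_index M,
        Nat.factorization_mul Nat.card_pos.ne' index_ne_zero_of_finite, Finsupp.add_apply,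
        pow_add] at h1
      rw [Nat.eq_of_mul_eq_mul_left (by positivity) h1]
      by_contra hbig
      have h2 : 2 ≤ M.index.factorization 2 := by
        by_contra h3
        have : 2 ^ (M.index.factorization 2) ≤ 2 ^ 1 := Nat.pow_le_pow_right (by omega) (by omega)
        omega
      exact hno x ((Nat.pow_dvd_pow 2 h2).trans (Nat.ordProj_dvd _ 2))
    have hDC : ∀ d ∈ D, (d : G) ∈ centralizer ({c * x * c⁻¹} : Set G) := by
      intro d hd
      rw [mem_subgroupOf, mem_pointwise_smul_iff_inv_smul_mem] at hd
      have h1 := mem_centralizer_singleton_iff.mp (map_subtype_le _ hd)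
      simp only [MulAut.smul_def, MulAut.conj_inv_apply] at h1
      rw [mem_centralizer_singleton_iff]
      calc (d : G) * (c * x * c⁻¹) = c * ((c⁻¹ * d * c) * x) * c⁻¹ := by group
        _ = c * (x * (c⁻¹ * d * c)) * c⁻¹ := by rw [h1]
        _ = c * x * c⁻¹ * d := by group
    intro s
    refine ⟨?_, D, hD, hDC⟩
    have hsq : s * s ∈ D := by
      have h0 : D.index ≠ 0 := index_ne_zero_of_finite
      rcases (show D.index = 1 ∨ D.index = 2 by omega) with h | h
      · rw [index_eq_one.mp h]; exact mem_top _
      · exact mul_self_mem_of_index_two h s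
    exact hDC _ hsq
  -- no nontrivial element of `S` is, up to conjugacy, centralized by every element
  have hkill : ∀ z : G, z ≠ 1 → ¬ ∀ x : G, ∃ g : G, g * x * g⁻¹ ∈ centralizer ({z} : Set G) := by
    intro z hz hall
    have htop : centralizer ({z} : Set G) = ⊤ := H89.eq_top_of_conjCover fun x => by
      obtain ⟨g, hg⟩ := hall x
      refine ⟨g⁻¹, ?_⟩
      rw [mem_pointwise_smul_iff_inv_smul_mem]
      simpa [MulAut.smul_def, MulAut.conj_inv_apply] using hg
    refine hz ?_
    rw [← mem_bot, ← hZ, mem_center_iff]
    exact fun g => mem_centralizer_singleton_iff.mp (htop.ge (mem_top g))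
  by_cases hel : ∀ s : (S : Subgroup G), s * s = 1
  swap
  · -- a central element of `S` lies in the subgroup generated by the squares
    set K : Subgroup (S : Subgroup G) := closure (Set.range fun s => s * s) with hK
    haveI : K.Normal := by
      refine ⟨fun k hk g => ?_⟩
      induction hk using closure_induction with
      | mem y hy =>
        obtain ⟨s, rfl⟩ := hy
        exact subset_closure ⟨g * s * g⁻¹, by group⟩
      | one => simp
      | mul a b _ _ ha hb =>
        have := K.mul_mem ha hb
        simpa [mul_assoc] using this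
      | inv a _ ha =>
        have := K.inv_mem ha
        simpa [mul_assoc] using this
    have hKne : K ≠ ⊥ := by
      intro h
      exact hel fun s => by
        rw [← mem_bot, ← h]
        exact subset_closure ⟨s, rfl⟩
    obtain ⟨z, hzm, hz1⟩ := (bot_or_exists_ne_one _).resolve_left (H24.inf_center_ne_bot S.isPGroup' hKne)
    refine hkill (z : G) (fun h => hz1 (Subtype.ext h)) fun x => ?_
    obtain ⟨c, hc⟩ := hcov x
    refine ⟨c, ?_⟩
    rw [mem_centralizer_singleton_iff, eq_comm]
    rw [← mem_centralizer_singleton_iff]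
    have hle : K ≤ (centralizer ({c * x * c⁻¹} : Set G)).subgroupOf (S : Subgroup G) := by
      rw [hK, closure_le]
      rintro _ ⟨s, rfl⟩
      exact (hc s).1
    exact hle hzm.1
  · -- the elementary abelian case
    have hcomm : ∀ a b : (S : Subgroup G), a * b = b * a := fun a b => by
      have hinv : ∀ s : (S : Subgroup G), s⁻¹ = s := fun s => inv_eq_of_mul_eq_one_right (hel s)
      calc a * b = (a * b)⁻¹ := (hinv _).symm
        _ = b * a := by rw [mul_inv_rev, hinv, hinv]
    haveI : IsMulCommutative (S : Subgroup G) := ⟨⟨hcomm⟩⟩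
    letI : CommGroup (S : Subgroup G) := { (inferInstance : Group (S : Subgroup G)) with mul_comm := hcomm }
    set N := normalizer ((S : Subgroup G) : Set G) with hN
    -- the normalizer fixes no nontrivial element of `S`
    have hfix : ∀ w : (S : Subgroup G), (∀ n ∈ N, n * (w : G) * n⁻¹ = w) → w = 1 := by
      intro w hw
      have key : ∀ (k : ℕ) (g₀ : G), g₀⁻¹ * (w : G) ^ k * g₀ ∈ (S : Subgroup G) →
          g₀⁻¹ * (w : G) ^ k * g₀ = (w : G) ^ k := by
        intro k g₀ hmem
        obtain ⟨n, hn, hne⟩ := S.conj_eq_normalizer_conj_of_mem ((w : G) ^ k) g₀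
          (pow_mem w.2 k) hmem
        have h1 := hw n⁻¹ (N.inv_mem hn)
        rw [inv_inv] at h1
        rw [hne]
        have h2 := conj_pow (a := n⁻¹) (b := (w : G)) (i := k)
        rw [inv_inv, h1] at h2
        exact h2.symm
      set V := MonoidHom.transfer (MonoidHom.id (S : Subgroup G))
      have hV : V (w : G) = 1 := by
        rcases (Normal.eq_bot_or_eq_top (H := V.ker) inferInstance) with h | h
        · refine absurd ⟨⟨fun a b => ?_⟩⟩ hna
          apply (MonoidHom.ker_eq_bot_iff V).mp h
          rw [map_mul, map_mul, mul_comm]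
        · exact MonoidHom.mem_ker.mp (h.ge (mem_top _))
      rw [MonoidHom.transfer_eq_pow _ _ key] at hV
      have h1 : w ^ (S : Subgroup G).index = 1 := by
        apply Subtype.ext
        rw [SubgroupClass.coe_pow]
        exact congrArg Subtype.val hV
      obtain ⟨k, hk⟩ := Nat.odd_iff.mpr (Nat.two_dvd_ne_zero.mp S.not_dvd_index)
      rw [hk, pow_succ, pow_mul, sq, hel, one_pow, one_mul] at h1
      exact h1
    obtain ⟨z, hzS, hz1⟩ := (bot_or_exists_ne_one _).resolve_left hSne
    letI : MulAction N G := MulAction.compHom G (MulAut.conj.comp N.subtype)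
    have hsmul : ∀ (n : N) (g : G), n • g = (n : G) * g * (n : G)⁻¹ := fun _ _ => rfl
    haveI : Fintype (S : Subgroup G) := Fintype.ofFinite _
    set O : Finset (S : Subgroup G) := Finset.univ.filter fun s => (s : G) ∈ MulAction.orbit N z
    have hOmem : ∀ s : (S : Subgroup G), s ∈ O ↔ ∃ n ∈ N, n * z * n⁻¹ = s := by
      intro s
      simp only [O, Finset.mem_filter, Finset.mem_univ, true_and, MulAction.mem_orbit_iff, hsmul]
      exact ⟨fun ⟨n, h⟩ => ⟨n, n.2, h⟩, fun ⟨n, hn, h⟩ => ⟨⟨n, hn⟩, h⟩⟩
    have hOS : MulAction.orbit N z ⊆ ((S : Subgroup G) : Set G) := by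
      rintro _ ⟨n, rfl⟩
      simp only [hsmul]
      exact (mem_normalizer_iff.mp n.2 z).mp hzS
    have hOodd : Odd O.card := by
      have h1 : O.card = (MulAction.stabilizer N z).index := by
        rw [MulAction.index_stabilizer, ← Set.ncard_coe_finset]
        refine Set.ncard_congr (fun s _ => (s : G)) ?_ (fun a b _ _ h => Subtype.ext h) ?_
        · intro a ha
          exact (Finset.mem_filter.mp ha).2
        · intro b hb
          exact ⟨⟨b, hOS hb⟩, Finset.mem_filter.mpr ⟨Finset.mem_univ _, hb⟩, rfl⟩
      have h2 : (S : Subgroup G).subgroupOf N ≤ MulAction.stabilizer N z := by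
        intro n hn
        rw [MulAction.mem_stabilizer_iff, hsmul]
        have := congrArg Subtype.val (hcomm ⟨n, hn⟩ ⟨z, hzS⟩)
        simp only [MulMemClass.coe_mul] at this
        rw [this, mul_inv_cancel_right]
      have h3 : (MulAction.stabilizer N z).index ∣ (S : Subgroup G).index :=
        (index_dvd_of_le h2).trans (relIndex_dvd_index_of_le le_normalizer)
      rw [h1]
      exact (Nat.odd_iff.mpr (Nat.two_dvd_ne_zero.mp S.not_dvd_index)).of_dvd_nat h3
    have hprod : ∏ s ∈ O, s = 1 := by
      refine hfix _ fun n hn => ?_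
      have hmem : ∀ s : (S : Subgroup G), n * (s : G) * n⁻¹ ∈ (S : Subgroup G) :=
        fun s => (mem_normalizer_iff.mp hn s).mp s.2
      let φ : (S : Subgroup G) →* (S : Subgroup G) :=
        { toFun := fun s => ⟨n * s * n⁻¹, hmem s⟩
          map_one' := Subtype.ext (by simp)
          map_mul' := fun a b => Subtype.ext (by simp [mul_assoc]) }
      have hφ : Function.Injective φ := fun a b h => Subtype.ext (by
        have h' := congrArg Subtype.val h
        simpa [φ] using h')
      have himg : O.image φ = O := by
        refine Finset.eq_of_subset_of_card_le ?_ (Finset.card_image_of_injective _ hφ).ge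
        intro s hs
        obtain ⟨a, ha, rfl⟩ := Finset.mem_image.mp hs
        obtain ⟨m, hm, hma⟩ := (hOmem a).mp ha
        refine (hOmem _).mpr ⟨n * m, N.mul_mem hn hm, ?_⟩
        show _ = n * (a : G) * n⁻¹
        rw [← hma]
        group
      have h1 : φ (∏ s ∈ O, s) = ∏ s ∈ O, s := by
        conv_rhs => rw [← himg]
        rw [map_prod, Finset.prod_image (fun a _ b _ h => hφ h)]
      exact congrArg Subtype.val h1
    refine hkill z hz1 fun x => ?_
    obtain ⟨c, hc⟩ := hcov x
    obtain ⟨-, D, hD, hDC⟩ := hc 1
    have hmeet : ∃ o ∈ O, o ∈ D := by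
      by_contra hnone
      push Not at hnone
      have h0 : D.index ≠ 0 := index_ne_zero_of_finite
      rcases (show D.index = 1 ∨ D.index = 2 by omega) with h | h
      · obtain ⟨o, ho⟩ := Finset.card_pos.mp hOodd.pos
        exact hnone o ho (index_eq_one.mp h ▸ mem_top o)
      · have key : ∀ F : Finset (S : Subgroup G), F ⊆ O → (∏ s ∈ F, s ∈ D ↔ Even F.card) := by
          intro F
          induction F using Finset.induction_on with
          | empty => intro; simp
          | insert a F ha ih =>
            intro hsub
            rw [Finset.prod_insert ha, Finset.card_insert_of_notMem ha, mul_mem_iff_of_index_two h,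
              Nat.even_add_one, ← ih ((Finset.subset_insert a F).trans hsub)]
            have hna := hnone a (hsub (Finset.mem_insert_self a F))
            tauto
        have h1 := (key O le_rfl).mp (hprod ▸ D.one_mem)
        exact Nat.not_even_iff_odd.mpr hOodd h1
    obtain ⟨o, ho, hoD⟩ := hmeet
    obtain ⟨n, hn, hno'⟩ := (hOmem o).mp ho
    refine ⟨n⁻¹ * c, ?_⟩
    have h1 := mem_centralizer_singleton_iff.mp (hDC o hoD)
    rw [← hno'] at h1
    rw [mem_centralizer_singleton_iff]
    calc n⁻¹ * c * x * (n⁻¹ * c)⁻¹ * z = n⁻¹ * (c * x * c⁻¹ * (n * z * n⁻¹)) * n := by group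
      _ = n⁻¹ * (n * z * n⁻¹ * (c * x * c⁻¹)) * n := by rw [h1]
      _ = z * (n⁻¹ * c * x * (n⁻¹ * c)⁻¹) := by group

/-- A group without class sizes divisible by `4` is solvable, given the odd order theorem. -/
theorem isSolvable_of_not_four_dvd
    (hoddsolv : ∀ (H : Type u) [Group H] [Finite H], Odd (Nat.card H) → Group.IsSolvable H)
    {G : Type u} [Group G] [Finite G]
    (h : ∀ x : G, ¬ 4 ∣ (centralizer ({x} : Set G)).index) : Group.IsSolvable G := by
  induction hn : Nat.card G using Nat.strong_induction_on generalizing G with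
  | _ k ih =>
    subst hn
    by_cases hab : IsMulCommutative G
    · exact Group.isSolvable_of_comm fun a b => hab.1.1 a b
    by_cases hodd : Odd (Nat.card G)
    · exact hoddsolv G hodd
    haveI : Nontrivial G := by
      by_contra hnt
      rw [not_nontrivial_iff_subsingleton] at hnt
      exact hab ⟨⟨fun a b => Subsingleton.elim _ _⟩⟩
    by_cases hs : IsSimpleGroup G
    · obtain ⟨x, hx⟩ := exists_four_dvd_index_of_simple hab hodd
      exact absurd hx (h x)
    · obtain ⟨K, hK, hKne⟩ : ∃ K : Subgroup G, K.Normal ∧ K ≠ ⊥ ∧ K ≠ ⊤ := by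
        by_contra hnone
        push Not at hnone
        exact hs ⟨fun K hK => or_iff_not_imp_left.mpr (hnone K hK)⟩
      haveI := hK
      have hlt1 : Nat.card K < Nat.card G :=
        lt_of_le_of_ne (card_le_card_group K) fun e => hKne.2 (eq_top_of_card_eq K e)
      have hlt2 : Nat.card (G ⧸ K) < Nat.card G := by
        rw [card_eq_card_quotient_mul_card_subgroup K]
        exact lt_mul_of_one_lt_right Nat.card_pos (K.one_lt_card_iff_ne_bot.mpr hKne.1)
      haveI : Group.IsSolvable K := by
        refine ih _ hlt1 (fun x hx => h x (hx.trans ?_)) rfl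
        have e : (centralizer ({(x : G)} : Set G)).subgroupOf K = centralizer ({x} : Set K) := by
          ext y
          simp [mem_subgroupOf, mem_centralizer_singleton_iff, Subtype.ext_iff]
        rw [← e]
        exact H89.relIndex_dvd_index_left K
      haveI : Group.IsSolvable (G ⧸ K) := by
        refine ih _ hlt2 (fun y hy => ?_) rfl
        obtain ⟨g, rfl⟩ := QuotientGroup.mk'_surjective K y
        refine h g (hy.trans ((index_dvd_of_le ?_).trans
          (index_map_dvd _ (f := QuotientGroup.mk' K) (QuotientGroup.mk'_surjective K))))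
        rintro _ ⟨u, hu, rfl⟩
        rw [SetLike.mem_coe, mem_centralizer_singleton_iff] at hu
        rw [mem_centralizer_singleton_iff, ← map_mul, hu, map_mul]
      exact Group.isSolvable_of_ker_le_range K.subtype (QuotientGroup.mk' K) (by simp)

end Cfsg.Agent.H88
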