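import Mathlib

/-!
Commuting pairs whose first member is a `π`-element: the coset form of Gallagher's identity and
`k_π(G) ≤ k_π(N) k_π(G/N)`.
-/

namespace Cfsg.Agent.H88.PiCount

variable {G : Type*} [Group G] (π : Set ℕ)

/-- `x` is a `π`-element. -/
def IsPi (x : G) : Prop := ∀ q : ℕ, q.Prime → q ∣ orderOf x → q ∈ π

variable {π}

theorem isPi_of_dvd {H : Type*} [Group H] {x : G} {y : H} (h : IsPi π x)
    (hd : orderOf y ∣ orderOf x) : IsPi π y :=
  fun q hq hqd => h q hq (hqd.trans hd)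

theorem isPi_one : IsPi π (1 : G) := fun q hq h => by
  rw [orderOf_one, Nat.dvd_one] at h
  exact absurd h hq.ne_one

theorem isPi_map {H : Type*} [Group H] (f : G →* H) {x : G} (h : IsPi π x) : IsPi π (f x) :=
  isPi_of_dvd h (orderOf_map_dvd f x)

theorem isPi_conj {x : G} (g : G) (h : IsPi π x) : IsPi π (g * x * g⁻¹) :=
  isPi_of_dvd h (dvd_of_eq (by rw [show g * x * g⁻¹ = MulAut.conj g x from rfl, MulEquiv.orderOf_eq]))

theorem coprime_order {x y : G} (hx : IsPi π x) (hy : IsPi πᶜ y) :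
    (orderOf x).Coprime (orderOf y) := by
  refine Nat.coprime_of_dvd fun q hq h1 h2 => ?_
  exact hy q hq h2 (hx q hq h1)

theorem eq_one_of_both {x : G} (hx : IsPi π x) (hy : IsPi πᶜ x) : x = 1 := by
  rw [← orderOf_eq_one_iff]
  exact (Nat.coprime_self _).1 (coprime_order hx hy)

theorem isPi_mul {x y : G} (h : Commute x y) (hx : IsPi π x) (hy : IsPi π y) : IsPi π (x * y) :=
  fun q hq hd => (hq.dvd_mul.1 (hd.trans h.orderOf_mul_dvd_mul_orderOf)).elim (hx q hq) (hy q hq)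

theorem isPi_inv {x : G} (hx : IsPi π x) : IsPi π x⁻¹ :=
  isPi_of_dvd hx (dvd_of_eq (orderOf_inv x))

variable (π) in
theorem exists_split (n : ℕ) (hn : n ≠ 0) : ∃ a b : ℕ, a * b = n ∧ a.Coprime b ∧
    (∀ q : ℕ, q.Prime → q ∣ a → q ∈ π) ∧ (∀ q : ℕ, q.Prime → q ∣ b → q ∉ π) := by
  induction n using Nat.recOnPrimeCoprime with
  | zero => exact absurd rfl hn
  | prime_pow p k hp =>
    have h1 : ∀ (P : ℕ → Prop) (q : ℕ), q.Prime → q ∣ 1 → P q := fun P q hq h =>
      absurd (Nat.dvd_one.1 h) hq.ne_one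
    have h2 : ∀ q : ℕ, q.Prime → q ∣ p ^ k → q = p := fun q hq h =>
      (Nat.prime_dvd_prime_iff_eq hq hp).1 (hq.dvd_of_dvd_pow h)
    by_cases h : p ∈ π
    · exact ⟨p ^ k, 1, mul_one _, Nat.coprime_one_right _, fun q hq hd => h2 q hq hd ▸ h,
        h1 (fun q => q ∉ π)⟩
    · exact ⟨1, p ^ k, one_mul _, Nat.coprime_one_left _, h1 (fun q => q ∈ π),
        fun q hq hd => h2 q hq hd ▸ h⟩
  | coprime a b ha hb hab iha ihb =>
    obtain ⟨a1, a2, ha12, hca, ha1, ha2⟩ := iha (by omega)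
    obtain ⟨b1, b2, hb12, hcb, hb1, hb2⟩ := ihb (by omega)
    subst ha12
    subst hb12
    refine ⟨a1 * b1, a2 * b2, by ring, ?_, fun q hq hd => (hq.dvd_mul.1 hd).elim (ha1 q hq) (hb1 q hq),
      fun q hq hd => (hq.dvd_mul.1 hd).elim (ha2 q hq) (hb2 q hq)⟩
    exact Nat.coprime_of_dvd fun q hq h1 h2 => (hq.dvd_mul.1 h2).elim
      (fun h => ha2 q hq h ((hq.dvd_mul.1 h1).elim (ha1 q hq) (hb1 q hq)))
      (fun h => hb2 q hq h ((hq.dvd_mul.1 h1).elim (ha1 q hq) (hb1 q hq)))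

variable (π) in
theorem exists_parts [Finite G] (y : G) : ∃ u v : ℕ,
    y ^ u * y ^ v = y ∧ IsPi π (y ^ u) ∧ IsPi πᶜ (y ^ v) := by
  obtain ⟨a, b, hab, hc, ha, hb⟩ := exists_split π (orderOf y) (orderOf_pos y).ne'
  obtain ⟨u, hu1, hu2⟩ := Nat.chineseRemainder hc 1 0
  obtain ⟨v, hv1, hv2⟩ := Nat.chineseRemainder hc 0 1
  have hsum : u + v ≡ 1 [MOD a * b] := (Nat.modEq_and_modEq_iff_modEq_mul hc).1
    ⟨(hu1.add hv1).trans (by rfl), (hu2.add hv2).trans (by rfl)⟩
  refine ⟨u, v, ?_, fun q hq hd => ha q hq (hd.trans ?_), fun q hq hd => hb q hq (hd.trans ?_)⟩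
  · rw [← pow_add]
    conv_rhs => rw [← pow_one y]
    rw [pow_eq_pow_iff_modEq, ← hab]
    exact hsum
  · refine orderOf_dvd_of_pow_eq_one ?_
    rw [← pow_mul, ← orderOf_dvd_iff_pow_eq_one, ← hab, mul_comm a b]
    exact Nat.mul_dvd_mul (Nat.modEq_zero_iff_dvd.1 hu2) dvd_rfl
  · refine orderOf_dvd_of_pow_eq_one ?_
    rw [← pow_mul, ← orderOf_dvd_iff_pow_eq_one, ← hab]
    exact Nat.mul_dvd_mul (Nat.modEq_zero_iff_dvd.1 hv1) dvd_rfl

/-- Uniqueness of the decomposition. -/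
theorem parts_unique [Finite G] {a b a' b' : G} (hab : Commute a b) (hab' : Commute a' b')
    (h : a * b = a' * b') (ha : IsPi π a) (hb : IsPi πᶜ b) (ha' : IsPi π a') (hb' : IsPi πᶜ b') :
    a = a' ∧ b = b' := by
  have key : ∀ {c d : G}, Commute c d → IsPi π c → IsPi πᶜ d → ∃ u : ℕ, (c * d) ^ u = c := by
    intro c d hcd hc hd
    obtain ⟨u, hu1, hu2⟩ := Nat.chineseRemainder (coprime_order hc hd) 1 0
    refine ⟨u, ?_⟩
    rw [hcd.mul_pow, orderOf_dvd_iff_pow_eq_one.1 (Nat.modEq_zero_iff_dvd.1 hu2), mul_one]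
    conv_rhs => rw [← pow_one c]
    rw [pow_eq_pow_iff_modEq]
    exact hu1
  obtain ⟨u, hu⟩ := key hab ha hb
  obtain ⟨u', hu'⟩ := key hab' ha' hb'
  rw [← h] at hu'
  have haa : Commute a a' := by rw [← hu, ← hu']; exact Commute.pow_pow (Commute.refl _) u u'
  have hbab : b = a⁻¹ * (a * b) := by group
  have hb'ab : b' = a'⁻¹ * (a * b) := by rw [h]; group
  have hxa : Commute (a * b) a := by
    have : Commute (a * b) ((a * b) ^ u) := (Commute.refl _).pow_right u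
    rwa [hu] at this
  have hxa' : Commute (a * b) a' := by
    have : Commute (a * b) ((a * b) ^ u') := (Commute.refl _).pow_right u'
    rwa [hu'] at this
  have e : a'⁻¹ * a = b' * b⁻¹ := by
    rw [hbab, hb'ab, mul_inv_rev, inv_inv]
    group
  have hbb : Commute b' b⁻¹ := by
    refine Commute.inv_right ?_
    rw [hbab, hb'ab]
    exact Commute.mul_left (Commute.mul_right (haa.symm.inv_inv) (hxa'.symm.inv_left))
      (Commute.mul_right hxa.inv_right (Commute.refl _))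
  have h1 : IsPi π (a'⁻¹ * a) := isPi_mul haa.symm.inv_left (isPi_inv ha') ha
  have h2 : IsPi πᶜ (a'⁻¹ * a) := e ▸ isPi_mul hbb hb' (isPi_inv hb)
  have h3 := eq_one_of_both h1 h2
  refine ⟨(inv_mul_eq_one.1 h3).symm, ?_⟩
  rw [e, mul_inv_eq_one] at h3
  exact h3.symm

variable (π) in
/-- Commuting pairs in `gN × N`, the first a `π`-element. -/
def pairsL (g : G) (N : Subgroup G) : Set (G × G) :=
  {p | g⁻¹ * p.1 ∈ N ∧ IsPi π p.1 ∧ p.2 ∈ N ∧ Commute p.1 p.2}

variable (π) in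
/-- Commuting pairs in `gN × N`, the second a `π`-element. -/
def pairsR (g : G) (N : Subgroup G) : Set (G × G) :=
  {p | g⁻¹ * p.1 ∈ N ∧ IsPi π p.2 ∧ p.2 ∈ N ∧ Commute p.1 p.2}

theorem pow_mem_coset {g y : G} {N : Subgroup G} (hg : g ∈ Subgroup.normalizer (N : Set G))
    (hy : g⁻¹ * y ∈ N) (n : ℕ) : (g ^ n)⁻¹ * y ^ n ∈ N := by
  induction n with
  | zero => simp
  | succ n ih =>
    have hyN : y ∈ Subgroup.normalizer (N : Set G) := by
      have := mul_mem hg (Subgroup.le_normalizer hy)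
      rwa [mul_inv_cancel_left] at this
    rw [pow_succ, pow_succ, show (g ^ n * g)⁻¹ * (y ^ n * y)
      = (g⁻¹ * y) * (y⁻¹ * ((g ^ n)⁻¹ * y ^ n) * y) by group]
    refine mul_mem hy ?_
    have := (Subgroup.mem_normalizer_iff.1 (inv_mem hyN) ((g ^ n)⁻¹ * y ^ n)).1 ih
    rwa [inv_inv] at this

/-- For a `π`-element `g` normalizing `N`, the `π'`-part of any element of `gN` lies in `N`. -/
theorem part_mem [Finite G] {g y : G} {N : Subgroup G} (hg : g ∈ Subgroup.normalizer (N : Set G))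
    (hgπ : IsPi π g) (hy : g⁻¹ * y ∈ N) {v : ℕ} (hv : IsPi πᶜ (y ^ v)) : y ^ v ∈ N := by
  set m := orderOf g
  set o := orderOf (y ^ v)
  have h1 : (y ^ v) ^ m ∈ N := by
    have := pow_mem_coset hg hy (v * m)
    rw [mul_comm v m, pow_mul g, pow_orderOf_eq_one, one_pow, inv_one, one_mul, pow_mul] at this
    rwa [← pow_mul, mul_comm, pow_mul]
  have hc : m.Coprime o := coprime_order hgπ hv
  obtain ⟨t, ht1, ht2⟩ := Nat.chineseRemainder hc 0 1
  obtain ⟨k, rfl⟩ := Nat.modEq_zero_iff_dvd.1 ht1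
  have h2 : ((y ^ v) ^ m) ^ k = y ^ v := by
    rw [← pow_mul]
    conv_rhs => rw [← pow_one (y ^ v)]
    rw [pow_eq_pow_iff_modEq]
    exact ht2
  exact h2 ▸ pow_mem h1 k

/-- **Gallagher's identity for `π`-elements**, in counting form. -/
theorem ncard_pairsL_eq : ∀ [Finite G] (N : Subgroup G) (g : G),
    g ∈ Subgroup.normalizer (N : Set G) → IsPi π g →
    Nat.card (pairsL π g N) = Nat.card (pairsR π g N) := by
  intro _ N
  induction hn : Nat.card N using Nat.strong_induction_on generalizing N with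
  | _ n ih =>
    subst hn
    intro g hg hgπ
    classical
    let B := {b : G // b ∈ N ∧ IsPi πᶜ b}
    let L : B → Set (G × G) := fun b =>
      {p | g⁻¹ * p.1 ∈ N ∧ IsPi π p.1 ∧ p.2 ∈ N ∧ Commute p.1 p.2 ∧
        Commute p.1 (b : G) ∧ Commute p.2 (b : G)}
    let R : B → Set (G × G) := fun b =>
      {p | g⁻¹ * p.1 ∈ N ∧ IsPi π p.2 ∧ p.2 ∈ N ∧ Commute p.1 p.2 ∧
        Commute p.1 (b : G) ∧ Commute p.2 (b : G)}
    let T : Set (G × G) := {p | g⁻¹ * p.1 ∈ N ∧ p.2 ∈ N ∧ Commute p.1 p.2}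
    have hT1 : Nat.card T = Nat.card (Σ b : B, L b) := by
      refine (Nat.card_eq_of_bijective
        (f := fun s : (Σ b : B, L b) => (⟨((s.2 : G × G).1 * s.1, (s.2 : G × G).2), ?_, s.2.2.2.2.1,
          s.2.2.2.2.2.1.mul_left s.2.2.2.2.2.2.2.symm⟩ : T)) ⟨?_, ?_⟩).symm
      · show g⁻¹ * ((s.2 : G × G).1 * s.1) ∈ N
        rw [← mul_assoc]
        exact mul_mem s.2.2.1 s.1.2.1
      · rintro ⟨⟨b, hb⟩, ⟨⟨x, n⟩, h⟩⟩ ⟨⟨b', hb'⟩, ⟨⟨x', n'⟩, h'⟩⟩ he
        have he' : x * b = x' * b' ∧ n = n' := Prod.ext_iff.1 (congrArg Subtype.val he)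
        obtain ⟨he1, rfl⟩ := he'
        obtain ⟨rfl, rfl⟩ := parts_unique h.2.2.2.2.1 h'.2.2.2.2.1 he1 h.2.1 hb.2 h'.2.1 hb'.2
        rfl
      · rintro ⟨⟨y, n⟩, hy, hn, hyn⟩
        obtain ⟨u, v, huv, hu, hv⟩ := exists_parts π y
        have hvN := part_mem hg hgπ hy hv
        refine ⟨⟨⟨y ^ v, hvN, hv⟩, ⟨(y ^ u, n), ?_, hu, hn, hyn.pow_left u,
          Commute.pow_pow (Commute.refl y) u v, (hyn.pow_left v).symm⟩⟩, ?_⟩
        · show g⁻¹ * y ^ u ∈ N
          have : g⁻¹ * y ^ u = g⁻¹ * y * (y ^ v)⁻¹ := by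
            rw [mul_assoc]; congr 1; exact eq_mul_inv_of_mul_eq huv
          rw [this]
          exact mul_mem hy (inv_mem hvN)
        · refine Subtype.ext ?_
          show (y ^ u * y ^ v, n) = (y, n)
          rw [huv]
    have hT2 : Nat.card T = Nat.card (Σ b : B, R b) := by
      refine (Nat.card_eq_of_bijective
        (f := fun s : (Σ b : B, R b) => (⟨((s.2 : G × G).1, (s.2 : G × G).2 * s.1), s.2.2.1,
          mul_mem s.2.2.2.2.1 s.1.2.1,
          s.2.2.2.2.2.1.mul_right s.2.2.2.2.2.2.1⟩ : T)) ⟨?_, ?_⟩).symm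
      · rintro ⟨⟨b, hb⟩, ⟨⟨x, n⟩, h⟩⟩ ⟨⟨b', hb'⟩, ⟨⟨x', n'⟩, h'⟩⟩ he
        have he' : x = x' ∧ n * b = n' * b' := Prod.ext_iff.1 (congrArg Subtype.val he)
        obtain ⟨rfl, he1⟩ := he'
        obtain ⟨rfl, rfl⟩ := parts_unique h.2.2.2.2.2 h'.2.2.2.2.2 he1 h.2.1 hb.2 h'.2.1 hb'.2
        rfl
      · rintro ⟨⟨y, n⟩, hy, hn, hyn⟩
        obtain ⟨u, v, huv, hu, hv⟩ := exists_parts π n
        refine ⟨⟨⟨n ^ v, pow_mem hn v, hv⟩, ⟨(y, n ^ u), hy, hu, pow_mem hn u, hyn.pow_right u,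
          hyn.pow_right v, Commute.pow_pow (Commute.refl n) u v⟩⟩, ?_⟩
        refine Subtype.ext ?_
        show (y, n ^ u * n ^ v) = (y, n)
        rw [huv]
    haveI : Fintype B := Fintype.ofFinite B
    rw [hT1, Nat.card_sigma, Nat.card_sigma] at hT2
    set Lc := Nat.card (pairsL π g N) with hLc
    set Rc := Nat.card (pairsR π g N) with hRc
    -- the fibres
    have hfib : ∀ b : B, (Nat.card (L b) = Nat.card (R b)) ∨
        ((Nat.card (L b) = Lc ∧ Nat.card (R b) = Rc)) := by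
      intro b
      by_cases hex : ∃ y, g⁻¹ * y ∈ N ∧ Commute y (b : G)
      swap
      · left
        push Not at hex
        have h1 : L b = ∅ := Set.eq_empty_iff_forall_notMem.2 fun p hp => hex _ hp.1 hp.2.2.2.2.1
        have h2 : R b = ∅ := Set.eq_empty_iff_forall_notMem.2 fun p hp => hex _ hp.1 hp.2.2.2.2.1
        rw [h1, h2]
      obtain ⟨y, hy, hyb⟩ := hex
      by_cases hcen : N ≤ Subgroup.centralizer {(b : G)}
      · right
        have hcomm : ∀ n ∈ N, Commute n (b : G) := fun n hn =>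
          (Subgroup.mem_centralizer_iff.1 (hcen hn) _ rfl).symm
        have hgb : ∀ x, g⁻¹ * x ∈ N → Commute x (b : G) := by
          intro x hx
          have h1 : Commute g (b : G) := by
            have := hyb.mul_left ((hcomm _ hy).inv_left)
            rwa [show y * (g⁻¹ * y)⁻¹ = g by group] at this
          have := h1.mul_left (hcomm _ hx)
          rwa [mul_inv_cancel_left] at this
        have h1 : L b = pairsL π g N := Set.ext fun p =>
          ⟨fun h => ⟨h.1, h.2.1, h.2.2.1, h.2.2.2.1⟩,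
            fun h => ⟨h.1, h.2.1, h.2.2.1, h.2.2.2, hgb _ h.1, hcomm _ h.2.2.1⟩⟩
        have h2 : R b = pairsR π g N := Set.ext fun p =>
          ⟨fun h => ⟨h.1, h.2.1, h.2.2.1, h.2.2.2.1⟩,
            fun h => ⟨h.1, h.2.1, h.2.2.1, h.2.2.2, hgb _ h.1, hcomm _ h.2.2.1⟩⟩
        exact ⟨by rw [h1], by rw [h2]⟩
      · left
        obtain ⟨u, v, huv, hu, hv⟩ := exists_parts π y
        set g' := y ^ u with hg'
        have hg'N : g⁻¹ * g' ∈ N := by
          have : g⁻¹ * g' = g⁻¹ * y * (y ^ v)⁻¹ := by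
            rw [mul_assoc]; congr 1; exact eq_mul_inv_of_mul_eq huv
          rw [this]
          exact mul_mem hy (inv_mem (part_mem hg hgπ hy hv))
        have hg'b : Commute g' (b : G) := hyb.pow_left u
        have hg'n : g' ∈ Subgroup.normalizer (N : Set G) := by
          have := mul_mem hg (Subgroup.le_normalizer hg'N)
          rwa [mul_inv_cancel_left] at this
        set M := N ⊓ Subgroup.centralizer {(b : G)} with hM
        have hmemM : ∀ x, x ∈ M ↔ x ∈ N ∧ Commute x (b : G) := fun x => by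
          rw [hM, Subgroup.mem_inf, Subgroup.mem_centralizer_iff]
          simp only [Set.mem_singleton_iff, forall_eq]
          exact ⟨fun h => ⟨h.1, h.2.symm⟩, fun h => ⟨h.1, h.2.symm⟩⟩
        have hlt : Nat.card M < Nat.card N := by
          refine lt_of_le_of_ne (Subgroup.card_le_of_le inf_le_left) fun h => hcen ?_
          have := Subgroup.eq_of_le_of_card_ge (inf_le_left : M ≤ N) h.ge
          exact inf_eq_left.1 this
        have hg'M : g' ∈ Subgroup.normalizer (M : Set G) := by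
          rw [Subgroup.mem_normalizer_iff]
          intro x
          rw [hmemM, hmemM, Subgroup.mem_normalizer_iff.1 hg'n x]
          refine and_congr_right fun _ => ⟨fun h => (hg'b.mul_left h).mul_left hg'b.inv_left,
            fun h => ?_⟩
          have := (hg'b.inv_left.mul_left h).mul_left hg'b
          rwa [show g'⁻¹ * (g' * x * g'⁻¹) * g' = x by group] at this
        have hcos : ∀ x, (g'⁻¹ * x ∈ M) ↔ (g⁻¹ * x ∈ N ∧ Commute x (b : G)) := by
          intro x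
          rw [hmemM]
          constructor
          · rintro ⟨h1, h2⟩
            refine ⟨?_, ?_⟩
            · have := mul_mem hg'N h1
              rwa [show g⁻¹ * g' * (g'⁻¹ * x) = g⁻¹ * x by group] at this
            · have := hg'b.mul_left h2
              rwa [mul_inv_cancel_left] at this
          · rintro ⟨h1, h2⟩
            refine ⟨?_, hg'b.inv_left.mul_left h2⟩
            have := mul_mem (inv_mem hg'N) h1
            rwa [show (g⁻¹ * g')⁻¹ * (g⁻¹ * x) = g'⁻¹ * x by group] at this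
        have h1 : L b = pairsL π g' M := Set.ext fun p =>
          ⟨fun h => ⟨(hcos _).2 ⟨h.1, h.2.2.2.2.1⟩, h.2.1, (hmemM _).2 ⟨h.2.2.1, h.2.2.2.2.2⟩,
              h.2.2.2.1⟩,
            fun h => ⟨((hcos _).1 h.1).1, h.2.1, ((hmemM _).1 h.2.2.1).1, h.2.2.2,
              ((hcos _).1 h.1).2, ((hmemM _).1 h.2.2.1).2⟩⟩
        have h2 : R b = pairsR π g' M := Set.ext fun p =>
          ⟨fun h => ⟨(hcos _).2 ⟨h.1, h.2.2.2.2.1⟩, h.2.1, (hmemM _).2 ⟨h.2.2.1, h.2.2.2.2.2⟩,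
              h.2.2.2.1⟩,
            fun h => ⟨((hcos _).1 h.1).1, h.2.1, ((hmemM _).1 h.2.2.1).1, h.2.2.2,
              ((hcos _).1 h.1).2, ((hmemM _).1 h.2.2.1).2⟩⟩
        rw [h1, h2]
        exact ih _ hlt M rfl g' hg'M hu
    let b1 : B := ⟨1, one_mem N, isPi_one⟩
    have hL1 : Nat.card (L b1) = Lc := by
      have : L b1 = pairsL π g N := Set.ext fun p =>
        ⟨fun h => ⟨h.1, h.2.1, h.2.2.1, h.2.2.2.1⟩,
          fun h => ⟨h.1, h.2.1, h.2.2.1, h.2.2.2, Commute.one_right _, Commute.one_right _⟩⟩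
      rw [this]
    have hR1 : Nat.card (R b1) = Rc := by
      have : R b1 = pairsR π g N := Set.ext fun p =>
        ⟨fun h => ⟨h.1, h.2.1, h.2.2.1, h.2.2.2.1⟩,
          fun h => ⟨h.1, h.2.1, h.2.2.1, h.2.2.2, Commute.one_right _, Commute.one_right _⟩⟩
      rw [this]
    rcases lt_trichotomy Lc Rc with h | h | h
    · refine absurd hT2 (Finset.sum_lt_sum (fun b _ => ?_) ⟨b1, Finset.mem_univ _, by omega⟩).ne
      rcases hfib b with h' | ⟨h', h''⟩ <;> omega
    · exact h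
    · refine absurd hT2 (Finset.sum_lt_sum (fun b _ => ?_) ⟨b1, Finset.mem_univ _, by omega⟩).ne'
      rcases hfib b with h' | ⟨h', h''⟩ <;> omega

variable (π) in
/-- Commuting pairs of `G` with first member a `π`-element. -/
def piPairs (G : Type*) [Group G] : Set (G × G) := {p | IsPi π p.1 ∧ Commute p.1 p.2}

/-- There are `k_π(G) |G|` of them. -/
theorem card_piPairs (G : Type*) [Group G] [Finite G] :
    Nat.card (piPairs π G) = Nat.card {C : ConjClasses G //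
      ∀ q : ℕ, q.Prime → (∃ g : G, ConjClasses.mk g = C ∧ q ∣ orderOf g) → q ∈ π} * Nat.card G := by
  classical
  set P : ConjClasses G → Prop := fun C =>
    ∀ q : ℕ, q.Prime → (∃ g : G, ConjClasses.mk g = C ∧ q ∣ orderOf g) → q ∈ π
  have hP : ∀ x : G, P (ConjClasses.mk x) ↔ IsPi π x := by
    intro x
    constructor
    · exact fun h q hq hd => h q hq ⟨x, rfl, hd⟩
    · rintro h q hq ⟨g, hg, hd⟩
      obtain ⟨c, hc⟩ := isConj_iff.1 (ConjClasses.mk_eq_mk_iff_isConj.1 hg.symm)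
      exact isPi_conj c h q hq (hc ▸ hd)
  haveI : Fintype {C : ConjClasses G // P C} := Fintype.ofFinite _
  let T := Σ C : {C : ConjClasses G // P C}, {p : G × G // ConjClasses.mk p.1 = C.1 ∧ Commute p.1 p.2}
  have hT : Nat.card (piPairs π G) = Nat.card T :=
    Nat.card_congr
      { toFun := fun p => ⟨⟨ConjClasses.mk p.1.1, (hP _).2 p.2.1⟩, p.1, rfl, p.2.2⟩
        invFun := fun s => ⟨s.2.1, (hP _).1 (by rw [s.2.2.1]; exact s.1.2), s.2.2.2⟩
        left_inv := fun p => rfl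
        right_inv := fun ⟨⟨C, hC⟩, ⟨p, hp1, hp2⟩⟩ => by
          obtain rfl : ConjClasses.mk p.1 = C := hp1
          rfl }
  rw [hT, Nat.card_sigma]
  suffices key : ∀ C : {C : ConjClasses G // P C},
      Nat.card {p : G × G // ConjClasses.mk p.1 = C.1 ∧ Commute p.1 p.2} = Nat.card G by
    rw [Finset.sum_congr rfl (fun C _ => key C), Finset.sum_const, smul_eq_mul, Finset.card_univ,
      Nat.card_eq_fintype_card (α := {C : ConjClasses G // P C})]
  intro C
  obtain ⟨x, hx⟩ := ConjClasses.exists_rep C.1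
  set S := {p : G × G // ConjClasses.mk p.1 = C.1 ∧ Commute p.1 p.2}
  -- `S` is in bijection with `G` after choosing conjugators
  have hconj : ∀ p : S, ∃ c : G, c * x * c⁻¹ = p.1.1 := fun p =>
    isConj_iff.1 (ConjClasses.mk_eq_mk_iff_isConj.1 (hx.trans p.2.1.symm))
  let c : G → G := fun y => if h : ∃ c : G, c * x * c⁻¹ = y then h.choose else 1
  have hc : ∀ y : G, (∃ c : G, c * x * c⁻¹ = y) → c y * x * (c y)⁻¹ = y := fun y h => by
    simp only [c, dif_pos h]
    exact h.choose_spec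
  refine Nat.card_eq_of_bijective (fun p : S => p.1.2 * c p.1.1) ⟨?_, ?_⟩
  · rintro ⟨⟨y, z⟩, hy, hyz⟩ ⟨⟨y', z'⟩, hy', hyz'⟩ he
    have h1 := hc y (hconj ⟨⟨y, z⟩, hy, hyz⟩)
    have h2 := hc y' (hconj ⟨⟨y', z'⟩, hy', hyz'⟩)
    simp only at he
    have key : ∀ w u : G, Commute w u → (u * c w) * x * (u * c w)⁻¹ = u * (c w * x * (c w)⁻¹) * u⁻¹ :=
      fun w u _ => by group
    have e1 := key y z hyz
    have e2 := key y' z' hyz'
    rw [h1, ← hyz.eq, mul_inv_cancel_right] at e1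
    rw [h2, ← hyz'.eq, mul_inv_cancel_right, ← he, e1] at e2
    subst e2
    obtain rfl := mul_right_cancel he
    rfl
  · intro d
    refine ⟨⟨(d * x * d⁻¹, d * (c (d * x * d⁻¹))⁻¹), ?_, ?_⟩, by simp⟩
    · rw [← hx]
      exact (ConjClasses.mk_eq_mk_iff_isConj.2 (isConj_iff.2 ⟨d, rfl⟩)).symm
    · have h := hc _ ⟨d, rfl⟩
      set e := c (d * x * d⁻¹)
      show d * x * d⁻¹ * (d * e⁻¹) = d * e⁻¹ * (d * x * d⁻¹)
      calc d * x * d⁻¹ * (d * e⁻¹) = d * x * e⁻¹ := by group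
        _ = d * e⁻¹ * (e * x * e⁻¹) := by group
        _ = d * e⁻¹ * (d * x * d⁻¹) := by rw [h]

/-- Second-coordinate pairs of a coset are bounded by those of `N`. -/
theorem card_pairsR_le [Finite G] (N : Subgroup G) (g : G) :
    Nat.card (pairsR π g N) ≤ Nat.card (piPairs π N) := by
  classical
  let r : G → G := fun a => if h : ∃ y, g⁻¹ * y ∈ N ∧ Commute y a then h.choose else g
  have hr : ∀ a, (∃ y, g⁻¹ * y ∈ N ∧ Commute y a) → g⁻¹ * r a ∈ N ∧ Commute (r a) a := fun a h => by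
    simp only [r, dif_pos h]
    exact h.choose_spec
  refine Nat.card_le_card_of_injective (fun p : pairsR π g N =>
    (⟨(⟨p.1.2, p.2.2.2.1⟩, ⟨(r p.1.2)⁻¹ * p.1.1, ?_⟩), ?_, ?_⟩ : piPairs π N)) ?_
  · have h := hr p.1.2 ⟨p.1.1, p.2.1, p.2.2.2.2⟩
    have := mul_mem (inv_mem h.1) p.2.1
    rwa [show (g⁻¹ * r p.1.2)⁻¹ * (g⁻¹ * p.1.1) = (r p.1.2)⁻¹ * p.1.1 by group] at this
  · intro q hq hd
    rw [← Subgroup.orderOf_coe] at hd
    exact p.2.2.1 q hq hd
  · have h := hr p.1.2 ⟨p.1.1, p.2.1, p.2.2.2.2⟩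
    exact Subtype.ext (h.2.inv_left.mul_left p.2.2.2.2).symm
  · rintro ⟨⟨y, a⟩, hp⟩ ⟨⟨y', a'⟩, hp'⟩ he
    have h1 : a = a' := congrArg (fun t : piPairs π N => ((t.1.1 : N) : G)) he
    subst h1
    have h2 : (r a)⁻¹ * y = (r a)⁻¹ * y' := congrArg (fun t : piPairs π N => ((t.1.2 : N) : G)) he
    obtain rfl := mul_left_cancel h2
    rfl

theorem card_le (G : Type*) [Group G] [Finite G] (N : Subgroup G) [N.Normal] :
    Nat.card (piPairs π G) ≤ Nat.card (piPairs π N) * Nat.card (piPairs π (G ⧸ N)) := by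
  classical
  haveI : Fintype (piPairs π (G ⧸ N)) := Fintype.ofFinite _
  have hgmem : ∀ (x : G) (Q : G ⧸ N), QuotientGroup.mk x = Q ↔ Q.out⁻¹ * x ∈ N := fun x Q => by
    conv_lhs => rw [← Q.out_eq]
    exact ⟨fun h => QuotientGroup.eq.1 h.symm, fun h => (QuotientGroup.eq.2 h).symm⟩
  let F : piPairs π G → piPairs π (G ⧸ N) := fun p =>
    ⟨(QuotientGroup.mk' N p.1.1, QuotientGroup.mk' N p.1.2), isPi_map _ p.2.1, p.2.2.map _⟩
  rw [← Nat.card_congr (Equiv.sigmaFiberEquiv F), Nat.card_sigma]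
  refine (Finset.sum_le_card_nsmul _ _ (Nat.card (piPairs π N)) fun Q _ => ?_).trans
    (le_of_eq (by rw [smul_eq_mul, Finset.card_univ, Nat.card_eq_fintype_card (α := piPairs π (G ⧸ N)),
      mul_comm]))
  rcases isEmpty_or_nonempty {p : piPairs π G // F p = Q} with hE | ⟨⟨p0, hp0⟩⟩
  · simp
  set g := p0.1.1
  have hQ1 : QuotientGroup.mk' N g = Q.1.1 := congrArg (fun t : piPairs π (G ⧸ N) => t.1.1) hp0
  have hn : g ∈ Subgroup.normalizer (N : Set G) := by
    rw [Subgroup.normalizer_eq_top]; exact Subgroup.mem_top g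
  refine le_trans ?_ ((ncard_pairsL_eq N g hn p0.2.1).le.trans (card_pairsR_le N g))
  -- fix `y₀` in the second coset commuting with each admissible `x`
  let r : G → G := fun x => if h : ∃ y, QuotientGroup.mk' N y = Q.1.2 ∧ Commute x y then h.choose else 1
  have hr : ∀ x, (∃ y, QuotientGroup.mk' N y = Q.1.2 ∧ Commute x y) →
      QuotientGroup.mk' N (r x) = Q.1.2 ∧ Commute x (r x) := fun x h => by
    simp only [r, dif_pos h]
    exact h.choose_spec
  have hF : ∀ p : {p : piPairs π G // F p = Q},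
      QuotientGroup.mk' N p.1.1.1 = Q.1.1 ∧ QuotientGroup.mk' N p.1.1.2 = Q.1.2 := fun p =>
    ⟨congrArg (fun t : piPairs π (G ⧸ N) => t.1.1) p.2,
      congrArg (fun t : piPairs π (G ⧸ N) => t.1.2) p.2⟩
  refine Nat.card_le_card_of_injective (fun p : {p : piPairs π G // F p = Q} =>
    (⟨(p.1.1.1, (r p.1.1.1)⁻¹ * p.1.1.2), ?_, p.1.2.1, ?_, ?_⟩ : pairsL π g N)) ?_
  · exact QuotientGroup.eq.1 (hQ1.trans (hF p).1.symm)
  · exact QuotientGroup.eq.1 ((hr _ ⟨_, (hF p).2, p.1.2.2⟩).1.trans (hF p).2.symm)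
  · exact (hr _ ⟨_, (hF p).2, p.1.2.2⟩).2.inv_right.mul_right p.1.2.2
  · rintro ⟨⟨⟨x, y⟩, hp⟩, hq⟩ ⟨⟨⟨x', y'⟩, hp'⟩, hq'⟩ he
    have h1 : x = x' := congrArg (fun t : pairsL π g N => t.1.1) he
    subst h1
    have h2 : (r x)⁻¹ * y = (r x)⁻¹ * y' := congrArg (fun t : pairsL π g N => t.1.2) he
    obtain rfl := mul_left_cancel h2
    rfl

end Cfsg.Agent.H88.PiCount
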